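import Mathlib
import Cfsg.Agent.ParSys.Gal

/-!
# The residues of rank two over full stabilisers: digons, projective planes, generalised quadrangles

`Inc`: the subgroup `H` of `G` acts on points and lines, `B = Stab_H(p₀, L₀)`, `P i = Stab_H(L₀)` is transitive on the
points of `L₀` and `P j = Stab_H(p₀)` is transitive on the lines through `p₀`.

`Inc.rk_two`, `Inc.rk_three`, `Inc.rk_four` : the condition `GP` of the chamber system of the cosets of `B`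
(definitionally `RankTwo.GPp`), if the points and lines form a digon, a projective plane, a generalised quadrangle;
`Inc.symm` exchanges points and lines.
-/

set_option autoImplicit false

namespace Cfsg.Agent.ParSys.Polar.Incid

open Cfsg.Agent.ParSys Cfsg.Agent.ParSys.Free

variable {G : Type*} [Group G] {I : Type*} {B : Subgroup G} {P : I → Subgroup G}

/-- the condition `GP` for one pair (the same as `RankTwo.GPp`) -/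
def Rk (B : Subgroup G) (P : I → Subgroup G) (i j : I) (m : ℕ) : Prop :=
  ∀ c l, IsGal (adj B P) (alt i j m) c l →
    ∃! l', IsGal (adj B P) (alt j i m) c l' ∧ l'.getLastD c = l.getLastD c

theorem gp_iff {m : I → I → ℕ} : GP B P m ↔ ∀ i j, i ≠ j → Rk B P i j (m i j) := Iff.rfl

theorem isGal_smul {f : List I} {c : G ⧸ B} {l : List (G ⧸ B)} (g : G) (h : IsGal (adj B P) f c l) :
    IsGal (adj B P) f (g • c) (l.map (g • ·)) :=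
  IsGal.map (g := fun c : G ⧸ B => g • c) (fun _ _ _ hcd => adj_smul g hcd) h

theorem last_smul (g : G) (c : G ⧸ B) (l : List (G ⧸ B)) :
    (l.map (g • ·)).getLastD (g • c) = g • l.getLastD c :=
  getLastD_map (fun c : G ⧸ B => g • c) c l

/-- it suffices to look at the galleries which start in `B` -/
theorem rk_of_one {i j : I} {m : ℕ} (h : ∀ l, IsGal (adj B P) (alt i j m) ((1 : G) : G ⧸ B) l →
    ∃! l', IsGal (adj B P) (alt j i m) ((1 : G) : G ⧸ B) l' ∧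
      l'.getLastD ((1 : G) : G ⧸ B) = l.getLastD ((1 : G) : G ⧸ B)) : Rk B P i j m := by
  intro c l hl
  induction c using QuotientGroup.induction_on with
  | _ x =>
  have ex : ((x : G) : G ⧸ B) = x • ((1 : G) : G ⧸ B) := by
    show ((x : G) : G ⧸ B) = ((x * 1 : G) : G ⧸ B)
    rw [mul_one]
  have e1 : x⁻¹ • ((x : G) : G ⧸ B) = ((1 : G) : G ⧸ B) := by rw [ex, inv_smul_smul]
  have h1 := isGal_smul x⁻¹ hl
  rw [e1] at h1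
  obtain ⟨l', ⟨h2, h3⟩, h4⟩ := h _ h1
  have e2 := last_smul x⁻¹ ((x : G) : G ⧸ B) l
  rw [e1] at e2
  rw [e2] at h3
  refine ⟨l'.map (x • ·), ⟨?_, ?_⟩, ?_⟩
  · have := isGal_smul x h2
    rwa [← ex] at this
  · have := last_smul x ((1 : G) : G ⧸ B) l'
    rw [← ex] at this
    rw [this, h3, smul_inv_smul]
  · rintro l'' ⟨h5, h6⟩
    have h7 := isGal_smul x⁻¹ h5
    rw [e1] at h7
    have e3 := last_smul x⁻¹ ((x : G) : G ⧸ B) l''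
    rw [e1] at e3
    have h8 := h4 _ ⟨h7, by show (l''.map (x⁻¹ • ·)).getLastD _ = _; rw [e3, e2, h6]⟩
    rw [← h8, List.map_map]
    have : ((fun c : G ⧸ B => x • c) ∘ fun c : G ⧸ B => x⁻¹ • c) = id := by
      funext c; exact smul_inv_smul x c
    rw [this, List.map_id]

variable {H : Subgroup G} {α β : Type*}

/-- the coset geometry of `P i`, `P j` over `B` is a geometry of points and lines -/
structure Inc (B : Subgroup G) (P : I → Subgroup G) (i j : I) (H : Subgroup G) (a : ↥H →* Equiv.Perm α)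
    (b : ↥H →* Equiv.Perm β) (Pt : Set α) (Ln : Set β) (inc : α → β → Prop) (p₀ : α) (L₀ : β) : Prop where
  le : ∀ k, B ≤ P k
  iH : P i ≤ H
  jH : P j ≤ H
  p0 : p₀ ∈ Pt
  L0 : L₀ ∈ Ln
  inc0 : inc p₀ L₀
  aPt : ∀ h, ∀ p ∈ Pt, a h p ∈ Pt
  bLn : ∀ h, ∀ L ∈ Ln, b h L ∈ Ln
  inv : ∀ h, ∀ p ∈ Pt, ∀ L ∈ Ln, inc p L → inc (a h p) (b h L)
  memB : ∀ h : ↥H, (h : G) ∈ B ↔ a h p₀ = p₀ ∧ b h L₀ = L₀
  memi : ∀ h : ↥H, (h : G) ∈ P i ↔ b h L₀ = L₀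
  memj : ∀ h : ↥H, (h : G) ∈ P j ↔ a h p₀ = p₀
  tri : ∀ p ∈ Pt, inc p L₀ → ∃ h : ↥H, b h L₀ = L₀ ∧ a h p₀ = p
  trj : ∀ L ∈ Ln, inc p₀ L → ∃ h : ↥H, a h p₀ = p₀ ∧ b h L₀ = L

namespace Inc

variable {i j : I} {a : ↥H →* Equiv.Perm α} {b : ↥H →* Equiv.Perm β} {Pt : Set α} {Ln : Set β}
  {inc : α → β → Prop} {p₀ : α} {L₀ : β} (h : Inc B P i j H a b Pt Ln inc p₀ L₀)

include h

theorem symm : Inc B P j i H b a Ln Pt (fun L p => inc p L) L₀ p₀ where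
  le := h.le
  iH := h.jH
  jH := h.iH
  p0 := h.L0
  L0 := h.p0
  inc0 := h.inc0
  aPt := h.bLn
  bLn := h.aPt
  inv x L hL p hp hi := h.inv x p hp L hL hi
  memB x := (h.memB x).trans And.comm
  memi := h.memj
  memj := h.memi
  tri := h.trj
  trj := h.tri

theorem mk_eq {x y : ↥H} : ((x : G) : G ⧸ B) = ((y : G) : G ⧸ B) ↔ a x p₀ = a y p₀ ∧ b x L₀ = b y L₀ := by
  have e : ((x : G))⁻¹ * (y : G) = ((x⁻¹ * y : ↥H) : G) := by simp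
  rw [QuotientGroup.eq, e, h.memB, map_mul, map_mul, map_inv, map_inv, Equiv.Perm.mul_apply, Equiv.Perm.mul_apply,
    Equiv.Perm.inv_eq_iff_eq, Equiv.Perm.inv_eq_iff_eq]
  exact ⟨fun h => ⟨h.1.symm, h.2.symm⟩, fun h => ⟨h.1.symm, h.2.symm⟩⟩

theorem adj_i {x : ↥H} {d : G ⧸ B} : adj B P i ((x : G) : G ⧸ B) d ↔
    ∃ y : ↥H, d = ((y : G) : G ⧸ B) ∧ b y L₀ = b x L₀ ∧ a y p₀ ≠ a x p₀ := by
  have e : ∀ y : ↥H, ((x : G))⁻¹ * (y : G) = ((x⁻¹ * y : ↥H) : G) := fun y => by simp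
  have hi : ∀ y : ↥H, ((x : G))⁻¹ * (y : G) ∈ P i ↔ b y L₀ = b x L₀ := fun y => by
    rw [e, h.memi, map_mul, map_inv, Equiv.Perm.mul_apply, Equiv.Perm.inv_eq_iff_eq]
  have hB : ∀ y : ↥H, ((x : G))⁻¹ * (y : G) ∈ B ↔ a y p₀ = a x p₀ ∧ b y L₀ = b x L₀ := fun y => by
    rw [e, h.memB, map_mul, map_mul, map_inv, map_inv, Equiv.Perm.mul_apply, Equiv.Perm.mul_apply,
      Equiv.Perm.inv_eq_iff_eq, Equiv.Perm.inv_eq_iff_eq]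
  constructor
  · intro hd
    induction d using QuotientGroup.induction_on with
    | _ y =>
    rw [adj_mk h.le] at hd
    have hy : y ∈ H := by
      have e' : y = (x : G) * ((x : G)⁻¹ * y) := by group
      rw [e']
      exact mul_mem x.2 (h.iH hd.1)
    have h1 := (hi ⟨y, hy⟩).1 hd.1
    refine ⟨⟨y, hy⟩, rfl, h1, fun h2 => hd.2 ?_⟩
    exact (hB ⟨y, hy⟩).2 ⟨h2, h1⟩
  · rintro ⟨y, rfl, h1, h2⟩
    rw [adj_mk h.le]
    exact ⟨(hi y).2 h1, fun h3 => h2 ((hB y).1 h3).1⟩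

theorem adj_j {x : ↥H} {d : G ⧸ B} : adj B P j ((x : G) : G ⧸ B) d ↔
    ∃ y : ↥H, d = ((y : G) : G ⧸ B) ∧ a y p₀ = a x p₀ ∧ b y L₀ ≠ b x L₀ := h.symm.adj_i

theorem pt (x : ↥H) : a x p₀ ∈ Pt := h.aPt x _ h.p0

theorem ln (x : ↥H) : b x L₀ ∈ Ln := h.bLn x _ h.L0

theorem incx (x : ↥H) : inc (a x p₀) (b x L₀) := h.inv x _ h.p0 _ h.L0 h.inc0

theorem ex_i (x : ↥H) {p : α} (hp : p ∈ Pt) (hi : inc p (b x L₀)) : ∃ y : ↥H, b y L₀ = b x L₀ ∧ a y p₀ = p := by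
  have h1 := h.inv x⁻¹ p hp _ (h.ln x) hi
  rw [map_inv b, show (b x)⁻¹ ((b x) L₀) = L₀ from (b x).symm_apply_apply L₀] at h1
  obtain ⟨z, hz1, hz2⟩ := h.tri _ (h.aPt x⁻¹ p hp) h1
  refine ⟨x * z, ?_, ?_⟩
  · rw [map_mul, Equiv.Perm.mul_apply, hz1]
  · rw [map_mul, Equiv.Perm.mul_apply, hz2, map_inv]
    exact (a x).apply_symm_apply p

theorem ex_j (x : ↥H) {L : β} (hL : L ∈ Ln) (hi : inc (a x p₀) L) : ∃ y : ↥H, a y p₀ = a x p₀ ∧ b y L₀ = L :=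
  h.symm.ex_i x hL hi

/-! ### Digons -/

theorem rk_two (hall : ∀ p ∈ Pt, ∀ L ∈ Ln, inc p L) : Rk B P i j 2 := by
  apply rk_of_one
  intro l hl
  change IsGal (adj B P) [i, j] ((1 : G) : G ⧸ B) l at hl
  show ∃! l', IsGal (adj B P) [j, i] ((1 : G) : G ⧸ B) l' ∧ _
  obtain ⟨c1, l, rfl, h1, hl⟩ := isGal_cons_iff.1 hl
  obtain ⟨c2, l, rfl, h2, hl⟩ := isGal_cons_iff.1 hl
  rw [isGal_nil_iff] at hl
  subst hl
  obtain ⟨y1, rfl, h11, h12⟩ := (h.adj_i (x := 1)).1 h1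
  obtain ⟨y2, rfl, h21, h22⟩ := h.adj_j.1 h2
  simp only [map_one, Equiv.Perm.one_apply] at h11 h12
  rw [h11] at h22
  -- flags: (a y1 p₀, L₀), (a y1 p₀, b y2 L₀)
  obtain ⟨z1, hz1, hz2⟩ := h.ex_j 1 (h.ln y2) (hall _ (h.pt 1) _ (h.ln y2))
  simp only [map_one, Equiv.Perm.one_apply] at hz1
  refine ⟨[((z1 : G) : G ⧸ B), ((y2 : G) : G ⧸ B)], ⟨⟨?_, ?_, trivial⟩, rfl⟩, ?_⟩
  · refine (h.adj_j (x := 1)).2 ⟨z1, rfl, by simpa using hz1, ?_⟩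
    simpa [hz2] using h22
  · refine h.adj_i.2 ⟨y2, rfl, hz2.symm, ?_⟩
    rw [h21, hz1]; exact h12
  · rintro l' ⟨hl', hlast⟩
    obtain ⟨d1, l', rfl, h3, hl'⟩ := isGal_cons_iff.1 hl'
    obtain ⟨d2, l', rfl, h4, hl'⟩ := isGal_cons_iff.1 hl'
    rw [isGal_nil_iff] at hl'
    subst hl'
    obtain ⟨w1, rfl, h31, h32⟩ := (h.adj_j (x := 1)).1 h3
    obtain ⟨w2, rfl, h41, h42⟩ := h.adj_i.1 h4
    simp only [map_one, Equiv.Perm.one_apply] at h31 h32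
    have h5 : ((w2 : G) : G ⧸ B) = ((y2 : G) : G ⧸ B) := hlast
    have h6 := h.mk_eq.1 h5
    have h7 : ((w1 : G) : G ⧸ B) = ((z1 : G) : G ⧸ B) :=
      h.mk_eq.2 ⟨by rw [h31, hz1], by rw [← h41, h6.2, hz2]⟩
    rw [h5, h7]

/-! ### Planes -/

theorem rk_three (P1 : ∀ p ∈ Pt, ∀ p' ∈ Pt, p ≠ p' → ∃ L ∈ Ln, inc p L ∧ inc p' L)
    (P2 : ∀ p ∈ Pt, ∀ p' ∈ Pt, p ≠ p' → ∀ L ∈ Ln, ∀ L' ∈ Ln, inc p L → inc p' L → inc p L' → inc p' L' →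
      L = L') : Rk B P i j 3 := by
  apply rk_of_one
  intro l hl
  change IsGal (adj B P) [i, j, i] ((1 : G) : G ⧸ B) l at hl
  show ∃! l', IsGal (adj B P) [j, i, j] ((1 : G) : G ⧸ B) l' ∧ _
  obtain ⟨c1, l, rfl, h1, hl⟩ := isGal_cons_iff.1 hl
  obtain ⟨c2, l, rfl, h2, hl⟩ := isGal_cons_iff.1 hl
  obtain ⟨c3, l, rfl, h3, hl⟩ := isGal_cons_iff.1 hl
  rw [isGal_nil_iff] at hl
  subst hl
  obtain ⟨y1, rfl, h11, h12⟩ := (h.adj_i (x := 1)).1 h1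
  obtain ⟨y2, rfl, h21, h22⟩ := h.adj_j.1 h2
  obtain ⟨y3, rfl, h31, h32⟩ := h.adj_i.1 h3
  simp only [map_one, Equiv.Perm.one_apply] at h11 h12
  rw [h11] at h22
  rw [h21] at h32
  -- flags (p0,L0), (p1,L0), (p1,L1), (p2,L1)
  have i0 : inc p₀ L₀ := h.inc0
  have i1 : inc (a y1 p₀) L₀ := by have := h.incx y1; rwa [h11] at this
  have i2 : inc (a y1 p₀) (b y2 L₀) := by have := h.incx y2; rwa [h21] at this
  have i3 : inc (a y3 p₀) (b y2 L₀) := by have := h.incx y3; rwa [h31] at this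
  have n02 : p₀ ≠ a y3 p₀ := by
    intro e
    rw [← e] at i3
    exact h22 (P2 _ h.p0 _ (h.pt y1) h12.symm _ (h.ln y2) _ h.L0 i3 i2 i0 i1)
  obtain ⟨L, hL, hL1, hL2⟩ := P1 _ h.p0 _ (h.pt y3) n02
  have nL0 : L ≠ L₀ := by
    rintro rfl
    exact h22 (P2 _ (h.pt y1) _ (h.pt y3) h32.symm _ (h.ln y2) _ hL i2 i3 i1 hL2)
  have nL1 : L ≠ b y2 L₀ := by
    rintro rfl
    exact h22 (P2 _ h.p0 _ (h.pt y1) h12.symm _ (h.ln y2) _ h.L0 hL1 i2 i0 i1)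
  obtain ⟨z1, hz1, hz2⟩ := h.ex_j 1 hL (by simpa using hL1)
  simp only [map_one, Equiv.Perm.one_apply] at hz1
  obtain ⟨z2, hz3, hz4⟩ := h.ex_i z1 (h.pt y3) (by rw [hz2]; exact hL2)
  refine ⟨[((z1 : G) : G ⧸ B), ((z2 : G) : G ⧸ B), ((y3 : G) : G ⧸ B)], ⟨⟨?_, ?_, ?_, trivial⟩, rfl⟩, ?_⟩
  · exact (h.adj_j (x := 1)).2 ⟨z1, rfl, by simpa using hz1, by simpa [hz2] using nL0⟩
  · refine h.adj_i.2 ⟨z2, rfl, hz3, ?_⟩
    rw [hz4, hz1]; exact n02.symm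
  · refine h.adj_j.2 ⟨y3, rfl, hz4.symm, ?_⟩
    rw [h31, hz3, hz2]; exact nL1.symm
  · rintro l' ⟨hl', hlast⟩
    obtain ⟨d1, l', rfl, h4, hl'⟩ := isGal_cons_iff.1 hl'
    obtain ⟨d2, l', rfl, h5, hl'⟩ := isGal_cons_iff.1 hl'
    obtain ⟨d3, l', rfl, h6, hl'⟩ := isGal_cons_iff.1 hl'
    rw [isGal_nil_iff] at hl'
    subst hl'
    obtain ⟨w1, rfl, h41, h42⟩ := (h.adj_j (x := 1)).1 h4
    obtain ⟨w2, rfl, h51, h52⟩ := h.adj_i.1 h5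
    obtain ⟨w3, rfl, h61, h62⟩ := h.adj_j.1 h6
    simp only [map_one, Equiv.Perm.one_apply] at h41 h42
    have e3 : ((w3 : G) : G ⧸ B) = ((y3 : G) : G ⧸ B) := hlast
    have e3' := h.mk_eq.1 e3
    have e2 : a w2 p₀ = a y3 p₀ := by rw [← e3'.1, h61]
    have e1 : b w1 L₀ = L := by
      have j1 : inc p₀ (b w1 L₀) := by have := h.incx w1; rwa [h41] at this
      have j2 : inc (a y3 p₀) (b w1 L₀) := by have := h.incx w2; rwa [e2, h51] at this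
      exact P2 _ h.p0 _ (h.pt y3) n02 _ (h.ln w1) _ hL j1 j2 hL1 hL2
    have f1 : ((w1 : G) : G ⧸ B) = ((z1 : G) : G ⧸ B) := h.mk_eq.2 ⟨by rw [h41, hz1], by rw [e1, hz2]⟩
    have f2 : ((w2 : G) : G ⧸ B) = ((z2 : G) : G ⧸ B) :=
      h.mk_eq.2 ⟨by rw [e2, hz4], by rw [h51, e1, hz3, hz2]⟩
    rw [f1, f2, e3]

/-! ### Quadrangles -/

theorem rk_four (Q0 : ∀ p ∈ Pt, ∀ p' ∈ Pt, p ≠ p' → ∀ L ∈ Ln, ∀ L' ∈ Ln, inc p L → inc p' L → inc p L' →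
      inc p' L' → L = L')
    (Q1 : ∀ p ∈ Pt, ∀ L ∈ Ln, ¬ inc p L → ∃ p' ∈ Pt, ∃ L' ∈ Ln, inc p L' ∧ inc p' L' ∧ inc p' L)
    (Q2 : ∀ p ∈ Pt, ∀ L ∈ Ln, ¬ inc p L → ∀ p' ∈ Pt, ∀ L' ∈ Ln, ∀ p'' ∈ Pt, ∀ L'' ∈ Ln, inc p L' → inc p' L' →
      inc p' L → inc p L'' → inc p'' L'' → inc p'' L → p' = p'' ∧ L' = L'') : Rk B P i j 4 := by
  apply rk_of_one
  intro l hl
  change IsGal (adj B P) [i, j, i, j] ((1 : G) : G ⧸ B) l at hl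
  show ∃! l', IsGal (adj B P) [j, i, j, i] ((1 : G) : G ⧸ B) l' ∧ _
  obtain ⟨c1, l, rfl, h1, hl⟩ := isGal_cons_iff.1 hl
  obtain ⟨c2, l, rfl, h2, hl⟩ := isGal_cons_iff.1 hl
  obtain ⟨c3, l, rfl, h3, hl⟩ := isGal_cons_iff.1 hl
  obtain ⟨c4, l, rfl, h4, hl⟩ := isGal_cons_iff.1 hl
  rw [isGal_nil_iff] at hl
  subst hl
  obtain ⟨y1, rfl, h11, h12⟩ := (h.adj_i (x := 1)).1 h1
  obtain ⟨y2, rfl, h21, h22⟩ := h.adj_j.1 h2
  obtain ⟨y3, rfl, h31, h32⟩ := h.adj_i.1 h3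
  obtain ⟨y4, rfl, h41, h42⟩ := h.adj_j.1 h4
  simp only [map_one, Equiv.Perm.one_apply] at h11 h12
  rw [h11] at h22
  rw [h21] at h32
  rw [h31] at h42
  -- flags (p0,L0), (p1,L0), (p1,L1), (p2,L1), (p2,L2)
  have i0 : inc p₀ L₀ := h.inc0
  have i1 : inc (a y1 p₀) L₀ := by have := h.incx y1; rwa [h11] at this
  have i2 : inc (a y1 p₀) (b y2 L₀) := by have := h.incx y2; rwa [h21] at this
  have i3 : inc (a y3 p₀) (b y2 L₀) := by have := h.incx y3; rwa [h31] at this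
  have i4 : inc (a y3 p₀) (b y4 L₀) := by have := h.incx y4; rwa [h41] at this
  have n01 : ¬ inc p₀ (b y2 L₀) := fun hn =>
    h22 (Q0 _ h.p0 _ (h.pt y1) h12.symm _ (h.ln y2) _ h.L0 hn i2 i0 i1)
  have n02 : ¬ inc p₀ (b y4 L₀) := fun hn =>
    h32 (Q2 _ h.p0 _ (h.ln y2) n01 _ (h.pt y1) _ h.L0 _ (h.pt y3) _ (h.ln y4) i0 i1 i2 hn i4 i3).1.symm
  obtain ⟨p, hp, L, hL, j1, j2, j3⟩ := Q1 _ h.p0 _ (h.ln y4) n02
  have nL0 : L ≠ L₀ := by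
    intro e
    rw [e] at j1 j2
    have m1 : p ≠ a y1 p₀ := by
      rintro rfl
      exact h42 (Q0 _ hp _ (h.pt y3) h32.symm _ (h.ln y4) _ (h.ln y2) j3 i4 i2 i3)
    have m2 : ¬ inc p (b y2 L₀) := fun hn => h22 (Q0 _ hp _ (h.pt y1) m1 _ (h.ln y2) _ h.L0 hn i2 j2 i1)
    exact h32 (Q2 _ hp _ (h.ln y2) m2 _ (h.pt y1) _ h.L0 _ (h.pt y3) _ (h.ln y4) j2 i1 i2 j3 i4 i3).1.symm
  have np0 : p ≠ p₀ := by rintro rfl; exact n02 j3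
  have nL4 : L ≠ b y4 L₀ := by rintro rfl; exact n02 j1
  have np3 : p ≠ a y3 p₀ := by
    rintro rfl
    exact h32 (Q2 _ h.p0 _ (h.ln y2) n01 _ (h.pt y1) _ h.L0 _ (h.pt y3) _ hL i0 i1 i2 j1 j2 i3).1.symm
  obtain ⟨z1, hz1, hz2⟩ := h.ex_j 1 hL (by simpa using j1)
  simp only [map_one, Equiv.Perm.one_apply] at hz1
  obtain ⟨z2, hz3, hz4⟩ := h.ex_i z1 hp (by rw [hz2]; exact j2)
  obtain ⟨z3, hz5, hz6⟩ := h.ex_j z2 (h.ln y4) (by rw [hz4]; exact j3)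
  refine ⟨[((z1 : G) : G ⧸ B), ((z2 : G) : G ⧸ B), ((z3 : G) : G ⧸ B), ((y4 : G) : G ⧸ B)],
    ⟨⟨?_, ?_, ?_, ?_, trivial⟩, rfl⟩, ?_⟩
  · exact (h.adj_j (x := 1)).2 ⟨z1, rfl, by simpa using hz1, by simpa [hz2] using nL0⟩
  · refine h.adj_i.2 ⟨z2, rfl, hz3, ?_⟩
    rw [hz4, hz1]; exact np0
  · refine h.adj_j.2 ⟨z3, rfl, hz5, ?_⟩
    rw [hz6, hz3, hz2]; exact nL4.symm
  · refine h.adj_i.2 ⟨y4, rfl, hz6.symm, ?_⟩
    rw [h41, hz5, hz4]; exact np3.symm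
  · rintro l' ⟨hl', hlast⟩
    obtain ⟨d1, l', rfl, g1, hl'⟩ := isGal_cons_iff.1 hl'
    obtain ⟨d2, l', rfl, g2, hl'⟩ := isGal_cons_iff.1 hl'
    obtain ⟨d3, l', rfl, g3, hl'⟩ := isGal_cons_iff.1 hl'
    obtain ⟨d4, l', rfl, g4, hl'⟩ := isGal_cons_iff.1 hl'
    rw [isGal_nil_iff] at hl'
    subst hl'
    obtain ⟨w1, rfl, g11, g12⟩ := (h.adj_j (x := 1)).1 g1
    obtain ⟨w2, rfl, g21, g22⟩ := h.adj_i.1 g2
    obtain ⟨w3, rfl, g31, g32⟩ := h.adj_j.1 g3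
    obtain ⟨w4, rfl, g41, g42⟩ := h.adj_i.1 g4
    simp only [map_one, Equiv.Perm.one_apply] at g11 g12
    have e4 : ((w4 : G) : G ⧸ B) = ((y4 : G) : G ⧸ B) := hlast
    have e4' := h.mk_eq.1 e4
    have e3 : b w3 L₀ = b y4 L₀ := by rw [← g41, e4'.2]
    have k1 : inc p₀ (b w1 L₀) := by have := h.incx w1; rwa [g11] at this
    have k2 : inc (a w2 p₀) (b w1 L₀) := by have := h.incx w2; rwa [g21] at this
    have k3 : inc (a w2 p₀) (b y4 L₀) := by have := h.incx w3; rwa [g31, e3] at this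
    obtain ⟨q1, q2⟩ := Q2 _ h.p0 _ (h.ln y4) n02 _ (h.pt w2) _ (h.ln w1) _ hp _ hL k1 k2 k3 j1 j2 j3
    have f1 : ((w1 : G) : G ⧸ B) = ((z1 : G) : G ⧸ B) := h.mk_eq.2 ⟨by rw [g11, hz1], by rw [q2, hz2]⟩
    have f2 : ((w2 : G) : G ⧸ B) = ((z2 : G) : G ⧸ B) :=
      h.mk_eq.2 ⟨by rw [q1, hz4], by rw [g21, q2, hz3, hz2]⟩
    have f3 : ((w3 : G) : G ⧸ B) = ((z3 : G) : G ⧸ B) :=
      h.mk_eq.2 ⟨by rw [g31, q1, hz5, hz4], by rw [e3, hz6]⟩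
    rw [f1, f2, f3, e4]

end Inc

end Cfsg.Agent.ParSys.Polar.Incid
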