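import Mathlib

/-!
# The order of the unipotent group of a flag (C-side of NO-1', type (beta))

`card_le` : if `U` contains the Siegel elements of `e i` with centre `w ⊥ e j, e' j` (`j ≤ i`), then
`|U| ≥ |ker| · ∏ (|F|^(n-2i) q)`.
-/

set_option autoImplicit false

namespace Cfsg.Agent.ParSys.Polar.CardU

variable {G : Type*} [Group G] {F W : Type*} [Field F] [AddCommGroup W] [Module F W]

/-- a subgroup of a finite group with at least `|T|` cosets -/
theorem card_mul_le [Finite G] {T : Type*} {A A' : Subgroup G} (hA : A' ≤ A) (x : T → G) (hx : ∀ t, x t ∈ A)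
    (hinj : ∀ t t', (x t)⁻¹ * x t' ∈ A' → t = t') : Nat.card T * Nat.card A' ≤ Nat.card A := by
  rw [← Nat.card_prod]
  refine Nat.card_le_card_of_injective (fun a : T × A' => (⟨x a.1 * a.2, mul_mem (hx _) (hA a.2.2)⟩ : A)) ?_
  rintro ⟨t, a⟩ ⟨t', a'⟩ h
  have h1 : x t * (a : G) = x t' * (a' : G) := congrArg Subtype.val h
  have h2 : (x t)⁻¹ * x t' = (a : G) * (a' : G)⁻¹ := by
    calc (x t)⁻¹ * x t' = (x t)⁻¹ * (x t' * a') * (a' : G)⁻¹ := by group
      _ = _ := by rw [← h1]; group
  have h3 := hinj t t' (by rw [h2]; exact mul_mem a.2 (inv_mem a'.2))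
  subst h3
  rw [inv_mul_cancel] at h2
  have h4 : a = a' := Subtype.ext (mul_inv_eq_one.1 h2.symm)
  rw [h4]

/-- the data -/
structure Dat (F : Type*) {W : Type*} [Field F] [AddCommGroup W] [Module F W] (sg : F → F) (g : W → W → F)
    (rho : G → W → W) (U : Subgroup G) (m : ℕ) (e e' : ℕ → W) : Prop where
  one : ∀ v, rho 1 v = v
  mul : ∀ x ∈ U, ∀ y ∈ U, ∀ v, rho (x * y) v = rho x (rho y v)
  sg_one : sg 1 = 1
  sg_add : ∀ a b, sg (a + b) = sg a + sg b
  g_add : ∀ v v' u, g (v + v') u = g v u + g v' u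
  g_smul : ∀ (s : F) v u, g (s • v) u = s * g v u
  g_sym : ∀ v u, g u v = sg (g v u)
  ee' : ∀ i j, 1 ≤ i → i ≤ m → 1 ≤ j → j ≤ m → g (e' j) (e i) = if i = j then 1 else 0
  tr : ∀ w, ∃ a, a + sg a = g w w
  sieg : ∀ i, 1 ≤ i → i ≤ m → ∀ w, (∀ j, 1 ≤ j → j ≤ i → g w (e j) = 0 ∧ g w (e' j) = 0) → ∀ a, a + sg a = g w w →
    ∃ x ∈ U, ∀ v, rho x v = v + g v (e i) • w + (g v w + a * g v (e i)) • e i

namespace Dat

variable {sg : F → F} {g : W → W → F} {rho : G → W → W} {U : Subgroup G} {m : ℕ} {e e' : ℕ → W}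
  (h : Dat F sg g rho U m e e')
include h

theorem inv_self {x : G} (hx : x ∈ U) (v : W) : rho x⁻¹ (rho x v) = v := by
  rw [← h.mul _ (inv_mem hx) _ hx, inv_mul_cancel, h.one]

/-- the stabiliser of `e' 1, .., e' i` -/
def Uc (i : ℕ) : Subgroup G where
  carrier := {u | u ∈ U ∧ ∀ j, 1 ≤ j → j ≤ i → rho u (e' j) = e' j}
  one_mem' := ⟨one_mem _, fun j _ _ => h.one _⟩
  mul_mem' := fun {a b} ha hb => ⟨mul_mem ha.1 hb.1, fun j h1 h2 => by
    rw [h.mul a ha.1 b hb.1, hb.2 j h1 h2, ha.2 j h1 h2]⟩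
  inv_mem' := fun {a} ha => ⟨inv_mem ha.1, fun j h1 h2 => by
    have := h.inv_self ha.1 (e' j)
    rwa [ha.2 j h1 h2] at this⟩

theorem Uc_zero : h.Uc 0 = U := by
  ext u
  refine ⟨fun hu => hu.1, fun hu => ⟨hu, fun j h1 h2 => by omega⟩⟩

theorem Uc_anti (i : ℕ) : h.Uc (i + 1) ≤ h.Uc i := fun _ hu => ⟨hu.1, fun j h1 h2 => hu.2 j h1 (by omega)⟩

/-- the centres of the Siegel elements of level `i` -/
def Ws (i : ℕ) : Submodule F W where
  carrier := {w | ∀ j, 1 ≤ j → j ≤ i → g w (e j) = 0 ∧ g w (e' j) = 0}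
  zero_mem' := fun j _ _ => by
    have h1 : ∀ u, g 0 u = 0 := fun u => by
      have := h.g_smul 0 0 u
      rwa [zero_smul, zero_mul] at this
    exact ⟨h1 _, h1 _⟩
  add_mem' := fun {a b} ha hb j h1 h2 => by
    rw [h.g_add, h.g_add, (ha j h1 h2).1, (ha j h1 h2).2, (hb j h1 h2).1, (hb j h1 h2).2, add_zero]
    exact ⟨rfl, rfl⟩
  smul_mem' := fun s a ha j h1 h2 => by
    rw [h.g_smul, h.g_smul, (ha j h1 h2).1, (ha j h1 h2).2, mul_zero]
    exact ⟨rfl, rfl⟩

/-- `|W| ≤ |W_i| |F|^(2i)` -/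
theorem card_Ws [Finite F] [Finite W] (i : ℕ) :
    Nat.card W ≤ Nat.card (h.Ws i) * Nat.card F ^ (2 * i) := by
  let L : W →ₗ[F] (Fin i → F × F) :=
    { toFun := fun w j => (g w (e (j + 1)), g w (e' (j + 1)))
      map_add' := fun v v' => by ext j <;> simp [h.g_add]
      map_smul' := fun s v => by ext j <;> simp [h.g_smul] }
  have hker : LinearMap.ker L = h.Ws i := by
    ext w
    rw [LinearMap.mem_ker]
    constructor
    · intro hw j h1 h2
      have h3 := congrFun hw ⟨j - 1, by omega⟩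
      have h4 : j - 1 + 1 = j := by omega
      simp only [L, LinearMap.coe_mk, AddHom.coe_mk, Pi.zero_apply, h4] at h3
      exact ⟨congrArg Prod.fst h3, congrArg Prod.snd h3⟩
    · intro hw
      ext j
      · exact (hw (j + 1) (by omega) (by omega)).1
      · exact (hw (j + 1) (by omega) (by omega)).2
  have h1 : Nat.card W = Nat.card (LinearMap.ker L) * Nat.card (W ⧸ LinearMap.ker L) := by
    rw [← Nat.card_prod]
    have := (LinearMap.ker L).card_eq_card_quotient_mul_card
    rw [this, Nat.card_prod, mul_comm]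
  have h2 : Nat.card (W ⧸ LinearMap.ker L) ≤ Nat.card F ^ (2 * i) := by
    rw [Nat.card_congr L.quotKerEquivRange.toEquiv]
    have h3 : Nat.card (LinearMap.range L) ≤ Nat.card (Fin i → F × F) :=
      Nat.card_le_card_of_injective _ Subtype.val_injective
    refine h3.trans ?_
    rw [Nat.card_fun, Nat.card_prod, Nat.card_fin, pow_mul, pow_two]
  rw [h1, hker]
  rw [hker] at h2
  exact Nat.mul_le_mul_left _ h2

theorem sg_zero : sg 0 = 0 := by
  have := h.sg_add 0 0
  rw [add_zero] at this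
  exact left_eq_add.1 this

/-- the Siegel elements of level `i + 1` -/
theorem step [Finite G] (i : ℕ) (hi : i < m) :
    Nat.card (h.Ws (i + 1)) * Nat.card {a : F // a + sg a = 0} * Nat.card (h.Uc (i + 1)) ≤ Nat.card (h.Uc i) := by
  classical
  rw [← Nat.card_prod]
  have hx : ∀ t : (h.Ws (i + 1)) × {a : F // a + sg a = 0}, ∃ x ∈ U, ∀ v, rho x v = v + g v (e (i + 1)) • (t.1 : W) +
      (g v t.1 + ((h.tr t.1).choose + t.2) * g v (e (i + 1))) • e (i + 1) := by
    rintro ⟨w, a⟩
    refine h.sieg (i + 1) (by omega) (by omega) w (fun j h1 h2 => w.2 j h1 h2) _ ?_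
    have h1 := (h.tr w).choose_spec
    rw [h.sg_add]
    calc (h.tr w).choose + a + (sg (h.tr w).choose + sg a) =
        ((h.tr w).choose + sg (h.tr w).choose) + (a + sg a) := by ring
      _ = g w w := by rw [h1, a.2, add_zero]
  choose x hxU hxv using hx
  have hge : ∀ w : h.Ws (i + 1), ∀ j, 1 ≤ j → j ≤ i + 1 → g (e' j) w = 0 := by
    intro w j h1 h2
    rw [h.g_sym, (w.2 j h1 h2).2, h.sg_zero]
  refine card_mul_le (h.Uc_anti i) x (fun t => ⟨hxU t, fun j h1 h2 => ?_⟩) ?_
  · rw [hxv, h.ee' (i + 1) j (by omega) (by omega) h1 (by omega), if_neg (by omega), hge t.1 j h1 (by omega)]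
    simp
  · intro t t' htt
    have h1 := htt.2 (i + 1) (by omega) le_rfl
    rw [h.mul _ (inv_mem (hxU t)) _ (hxU t')] at h1
    have h2 : rho (x t') (e' (i + 1)) = rho (x t) (e' (i + 1)) := by
      have h3 := congrArg (rho (x t)) h1
      rw [← h.mul _ (hxU t) _ (inv_mem (hxU t)), mul_inv_cancel, h.one] at h3
      exact h3
    rw [hxv, hxv, h.ee' (i + 1) (i + 1) (by omega) (by omega) (by omega) (by omega), if_pos rfl,
      hge t.1 _ (by omega) le_rfl, hge t'.1 _ (by omega) le_rfl, one_smul, one_smul, zero_add, zero_add,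
      mul_one, mul_one, add_assoc, add_assoc, add_left_cancel_iff] at h2
    have h4 : ∀ t : (h.Ws (i + 1)) × {a : F // a + sg a = 0},
        g ((t.1 : W) + ((h.tr t.1).choose + t.2) • e (i + 1)) (e' (i + 1)) = (h.tr t.1).choose + t.2 := by
      intro t
      rw [h.g_add, h.g_smul, (t.1.2 (i + 1) (by omega) le_rfl).2, h.g_sym (e' (i + 1)) (e (i + 1)),
        h.ee' (i + 1) (i + 1) (by omega) (by omega) (by omega) (by omega), if_pos rfl, h.sg_one, mul_one, zero_add]
    have h5 : (h.tr t'.1).choose + (t'.2 : F) = (h.tr t.1).choose + t.2 := by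
      rw [← h4 t', ← h4 t, h2]
    rw [h5] at h2
    have h6 : (t'.1 : W) = t.1 := add_right_cancel h2
    have h7 : t'.1 = t.1 := Subtype.ext h6
    rw [h7] at h5
    exact Prod.ext h7.symm (Subtype.ext (add_left_cancel h5).symm)

/-- **the order of `U`** -/
theorem card_le' [Finite G] {k : ℕ} (hk : k ≤ m) :
    (∏ i ∈ Finset.range k, (Nat.card (h.Ws (i + 1)) * Nat.card {a : F // a + sg a = 0})) *
      Nat.card (h.Uc k) ≤ Nat.card U := by
  induction k with
  | zero => rw [Finset.prod_range_zero, one_mul, h.Uc_zero]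
  | succ k ih =>
    rw [Finset.prod_range_succ, mul_assoc]
    exact (Nat.mul_le_mul_left _ (h.step k (by omega))).trans (ih (by omega))

/-- **the order of `U`**, `Q` the kernel -/
theorem card_le [Finite G] [Finite F] [Finite W] {Q : Subgroup G} (hQ : Q ≤ U) (hQv : ∀ x ∈ Q, ∀ v, rho x v = v)
    {n q : ℕ} (hn : Nat.card W = Nat.card F ^ n) (hq : Nat.card F = q ^ 2)
    (hq' : q ≤ Nat.card {a : F // a + sg a = 0}) (hnm : n = 2 * m ∨ n = 2 * m + 1) :
    Nat.card Q * q ^ (n * (n - 1) / 2) ≤ Nat.card U := by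
  have hF : 0 < Nat.card F := Nat.card_pos
  have hq0 : 0 < q := by
    rcases Nat.eq_zero_or_pos q with h0 | h0
    · rw [h0] at hq; simp at hq; omega
    · exact h0
  have hQU : Nat.card Q ≤ Nat.card (h.Uc m) := by
    have h1 : Q ≤ h.Uc m := fun x hx => ⟨hQ hx, fun j _ _ => hQv x hx _⟩
    exact Subgroup.card_le_of_le h1
  have hW : ∀ i, i < m → q ^ (2 * (n - 2 * (i + 1)) + 1) ≤
      Nat.card (h.Ws (i + 1)) * Nat.card {a : F // a + sg a = 0} := by
    intro i hi
    have h1 := h.card_Ws (i + 1)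
    rw [hn] at h1
    have h2 : Nat.card F ^ n = Nat.card F ^ (n - 2 * (i + 1)) * Nat.card F ^ (2 * (i + 1)) := by
      rw [← pow_add]; congr 1; omega
    rw [h2] at h1
    have h3 := Nat.le_of_mul_le_mul_right h1 (by positivity)
    rw [hq, ← pow_mul] at h3
    rw [pow_succ]
    exact Nat.mul_le_mul h3 hq'
  have hprod : ∀ k ≤ m, q ^ (k * (2 * n - 2 * k - 1)) ≤
      ∏ i ∈ Finset.range k, (Nat.card (h.Ws (i + 1)) * Nat.card {a : F // a + sg a = 0}) := by
    intro k hk
    induction k with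
    | zero => simp
    | succ k ih =>
      rw [Finset.prod_range_succ]
      refine le_trans ?_ (Nat.mul_le_mul (ih (by omega)) (hW k (by omega)))
      rw [← pow_add]
      apply le_of_eq
      congr 1
      obtain ⟨r, rfl⟩ : ∃ r, n = 2 * (k + 1) + r := ⟨n - 2 * (k + 1), by omega⟩
      have e1 : 2 * (2 * (k + 1) + r) - 2 * (k + 1) - 1 = 2 * k + 1 + 2 * r := by omega
      have e2 : 2 * (2 * (k + 1) + r) - 2 * k - 1 = 2 * k + 3 + 2 * r := by omega
      have e3 : 2 * (k + 1) + r - 2 * (k + 1) = r := by omega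
      rw [e1, e2, e3]
      ring
  have h1 := h.card_le' (k := m) le_rfl
  refine le_trans ?_ h1
  rw [mul_comm]
  refine Nat.mul_le_mul ?_ hQU
  have e : n * (n - 1) / 2 = m * (2 * n - 2 * m - 1) := by
    rcases hnm with rfl | rfl
    · rcases m with _ | m
      · rfl
      · have e1 : 2 * (m + 1) - 1 = 2 * m + 1 := by omega
        have e2 : 2 * (2 * (m + 1)) - 2 * (m + 1) - 1 = 2 * m + 1 := by omega
        rw [e1, e2]
        have e3 : 2 * (m + 1) * (2 * m + 1) = 2 * ((m + 1) * (2 * m + 1)) := by ring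
        rw [e3, Nat.mul_div_cancel_left _ two_pos]
    · have e1 : 2 * m + 1 - 1 = 2 * m := by omega
      have e2 : 2 * (2 * m + 1) - 2 * m - 1 = 2 * m + 1 := by omega
      rw [e1, e2]
      have e3 : (2 * m + 1) * (2 * m) = 2 * (m * (2 * m + 1)) := by ring
      rw [e3, Nat.mul_div_cancel_left _ two_pos]
  rw [e]
  exact hprod m le_rfl

end Dat

/-! ### The dual vectors -/

section dual

variable {sg : F → F} {g : W → W → F} {m : ℕ} {f : ℕ → Submodule F W} {e : ℕ → W}

theorem indep (hmono : ∀ d < m, f d ≤ f (d + 1)) (he : ∀ d < m, e (d + 1) ∈ f (d + 1))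
    (hne : ∀ d < m, e (d + 1) ∉ f d) {k : ℕ} (hk : k ≤ m) (c : ℕ → F)
    (h : ∑ i ∈ Finset.range k, c i • e (i + 1) = 0) : ∀ i < k, c i = 0 := by
  have hle : ∀ a b, a ≤ b → b ≤ m → f a ≤ f b := by
    intro a b hab hb
    induction b, hab using Nat.le_induction with
    | base => exact le_rfl
    | succ b hab ih => exact (ih (by omega)).trans (hmono b (by omega))
  induction k with
  | zero => intro i hi; omega
  | succ k ih =>
    rw [Finset.sum_range_succ] at h
    have h1 : ∑ i ∈ Finset.range k, c i • e (i + 1) ∈ f k :=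
      Submodule.sum_mem _ fun i hi => (f k).smul_mem _
        (hle (i + 1) k (by have := Finset.mem_range.1 hi; omega) (by omega) (he i (by
          have := Finset.mem_range.1 hi; omega)))
    have h2 : c k = 0 := by
      by_contra hc
      apply hne k (by omega)
      have h3 : c k • e (k + 1) ∈ f k := by
        have h4 : c k • e (k + 1) = - ∑ i ∈ Finset.range k, c i • e (i + 1) := by
          rw [eq_neg_iff_add_eq_zero, add_comm]; exact h
        rw [h4]; exact neg_mem h1
      have h5 := (f k).smul_mem (c k)⁻¹ h3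
      rwa [smul_smul, inv_mul_cancel₀ hc, one_smul] at h5
    rw [h2, zero_smul, add_zero] at h
    intro i hi
    by_cases hik : i = k
    · subst hik; exact h2
    · exact ih (by omega) h i (by omega)

theorem exists_dual (g_add : ∀ v v' u, g (v + v') u = g v u + g v' u)
    (g_smul : ∀ (s : F) v u, g (s • v) u = s * g v u) (g_sym : ∀ v u, g u v = sg (g v u))
    (sg_add : ∀ a b, sg (a + b) = sg a + sg b) (sg_mul : ∀ a b, sg (a * b) = sg a * sg b)
    (sg_sg : ∀ a, sg (sg a) = a) (nondeg : ∀ w, (∀ u, g u w = 0) → w = 0)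
    (hmono : ∀ d < m, f d ≤ f (d + 1)) (he : ∀ d < m, e (d + 1) ∈ f (d + 1))
    (hne : ∀ d < m, e (d + 1) ∉ f d) :
    ∃ e' : ℕ → W, ∀ i j, 1 ≤ i → i ≤ m → 1 ≤ j → j ≤ m → g (e' j) (e i) = if i = j then 1 else 0 := by
  classical
  have sg_zero : sg 0 = 0 := by
    have := sg_add 0 0
    rw [add_zero] at this
    exact left_eq_add.1 this
  have g_add' : ∀ v u u', g v (u + u') = g v u + g v u' := fun v u u' => by
    rw [g_sym, g_add, sg_add, ← g_sym, ← g_sym]
  have g_smul' : ∀ (s : F) v u, g v (s • u) = sg s * g v u := fun s v u => by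
    rw [g_sym, g_smul, sg_mul, ← g_sym]
  have g_zero' : ∀ v, g v 0 = 0 := fun v => by
    have := g_add' v 0 0
    rw [add_zero] at this
    exact left_eq_add.1 this
  let L : W →ₗ[F] (Fin m → F) :=
    { toFun := fun v i => g v (e (i + 1))
      map_add' := fun v v' => by ext i; simp [g_add]
      map_smul' := fun s v => by ext i; simp [g_smul] }
  have hL : LinearMap.range L = ⊤ := by
    by_contra hcon
    obtain ⟨φ, hφ, hle⟩ := Submodule.exists_le_ker_of_lt_top _ (lt_top_iff_ne_top.2 hcon)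
    apply hφ
    let c : ℕ → F := fun i => if hi : i < m then φ (Pi.single ⟨i, hi⟩ 1) else 0
    have h1 : ∀ v, g v (∑ i ∈ Finset.range m, sg (c i) • e (i + 1)) = φ (L v) := by
      intro v
      have h2 : ∀ s : Finset ℕ, g v (∑ i ∈ s, sg (c i) • e (i + 1)) = ∑ i ∈ s, c i * g v (e (i + 1)) := by
        intro s
        induction s using Finset.induction_on with
        | empty => rw [Finset.sum_empty, Finset.sum_empty, g_zero']
        | insert a s ha ih => rw [Finset.sum_insert ha, Finset.sum_insert ha, g_add', g_smul', sg_sg, ih]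
      rw [h2, Finset.sum_range]
      have h3 : L v = ∑ i : Fin m, (L v i) • (Pi.single i (1 : F) : Fin m → F) := by
        ext j
        simp [Finset.sum_apply, Pi.single_apply]
      rw [h3, map_sum]
      refine Finset.sum_congr rfl fun i _ => ?_
      rw [map_smul, smul_eq_mul, mul_comm]
      have h4 : c i = φ (Pi.single i 1) := by
        simp only [c, i.2, dif_pos]
      rw [h4]
      rfl
    have h5 := nondeg _ (fun u => by
      rw [h1]
      exact LinearMap.mem_ker.1 (hle ⟨u, rfl⟩))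
    have h6 := indep hmono he hne le_rfl (fun i => sg (c i)) h5
    apply LinearMap.ext
    intro x
    have h7 : x = ∑ i : Fin m, (x i) • (Pi.single i (1 : F) : Fin m → F) := by
      ext j
      simp [Finset.sum_apply, Pi.single_apply]
    rw [h7, map_sum, LinearMap.zero_apply]
    refine Finset.sum_eq_zero fun i _ => ?_
    have h8 := h6 i i.2
    have h9 : c i = 0 := by rw [← sg_sg (c i), h8, sg_zero]
    have h4 : c i = φ (Pi.single i 1) := by
      simp only [c, i.2, dif_pos]
    rw [map_smul, ← h4, h9, smul_zero]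
  have hsurj : ∀ j : Fin m, ∃ v, L v = Pi.single j 1 := fun j => by
    have : (Pi.single j (1 : F) : Fin m → F) ∈ LinearMap.range L := by rw [hL]; trivial
    exact this
  choose v hv using hsurj
  refine ⟨fun j => if hj : 1 ≤ j ∧ j ≤ m then v ⟨j - 1, by omega⟩ else 0, ?_⟩
  intro i j hi1 hi hj1 hj
  have h1 := congrFun (hv ⟨j - 1, by omega⟩) ⟨i - 1, by omega⟩
  have h2 : g (v ⟨j - 1, by omega⟩) (e (i - 1 + 1)) = (Pi.single (⟨j - 1, by omega⟩ : Fin m) (1 : F) : Fin m → F)
    ⟨i - 1, by omega⟩ := h1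
  have h3 : i - 1 + 1 = i := by omega
  rw [h3] at h2
  simp only [hj1, hj, and_self, dif_pos]
  rw [h2, Pi.single_apply]
  by_cases hij : i = j
  · subst hij; simp
  · rw [if_neg (by rw [Fin.mk.injEq]; omega), if_neg hij]

end dual

end Cfsg.Agent.ParSys.Polar.CardU
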