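import Mathlib
import Cfsg.Agent.ParSys.Polar.Incid

/-!
# The residues of rank two, the panels and the connectivity of a polar space of rank `m` of subspaces

`PolSp S m` : the subspaces `X` with `S X` ("totally singular") form a polar space of rank `m`.
`Act sg S` : the group acts on it, transitively enough.
`fst C sg m f J` : the stabiliser in `C` of the members `f d` (`d ≤ m`, `d ∉ J`) of the flag `f`.

* `trans` : `C` is transitive on the flags;
* `rk_two`, `rk_three`, `rk_three'`, `rk_four`, `rk_four'` : the rank two residues;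
* `relIndex_fst` : the number of chambers of a panel;
* `le_iSup` : `C` is generated by the panel stabilisers.
-/

set_option autoImplicit false
set_option linter.unusedSectionVars false
set_option linter.unusedVariables false

namespace Cfsg.Agent.ParSys.Polar.Flags

open Module Cfsg.Agent.ParSys Cfsg.Agent.ParSys.Polar.Incid

variable {F W : Type*} [Field F] [AddCommGroup W] [Module F W] [FiniteDimensional F W]

/-- the subspaces with `S` are the totally singular subspaces of a polar space of rank `m` -/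
structure PolSp (S : Submodule F W → Prop) (m : ℕ) : Prop where
  bot : S ⊥
  down : ∀ {X Y}, X ≤ Y → S Y → S X
  ext : ∀ X, S X → finrank F X < m → ∃ Y, S Y ∧ X ≤ Y ∧ finrank F Y = finrank F X + 1
  conn : ∀ X Y Z, S Y → S Z → X ≤ Y → X ≤ Z → finrank F Y = finrank F X + 1 →
    finrank F Z = finrank F X + 1 → finrank F X + 1 < m →
    ∃ T, X ≤ T ∧ finrank F T = finrank F X + 1 ∧ S (Y ⊔ T) ∧ S (Z ⊔ T)
  ex : ∀ X Y, S X → S Y → finrank F X + 1 = m → finrank F Y = m → ¬ X ≤ Y →
    finrank F ↥(X ⊓ Y) + 2 = m → ∃ Z, S Z ∧ X ≤ Z ∧ finrank F Z = m ∧ finrank F ↥(Z ⊓ Y) + 1 = m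
  uq : ∀ X Y Z Z', S X → S Y → S Z → S Z' → finrank F X + 1 = m → finrank F Y = m →
    finrank F Z = m → finrank F Z' = m → ¬ X ≤ Y → finrank F ↥(X ⊓ Y) + 2 = m → X ≤ Z → X ≤ Z' →
    finrank F ↥(Z ⊓ Y) + 1 = m → finrank F ↥(Z' ⊓ Y) + 1 = m → Z = Z'

/-- a group acts on the polar space, transitively on the members over a given one, fixing this one elementwise -/
structure Act {C : Type*} [Group C] (sg : C →* Equiv.Perm (Submodule F W)) (S : Submodule F W → Prop) :
    Prop where
  le : ∀ c {X Y}, X ≤ Y → sg c X ≤ sg c Y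
  rk : ∀ c X, finrank F ↥(sg c X) = finrank F X
  sing : ∀ c {X}, S X → S (sg c X)
  tr : ∀ X Y Z, S Y → S Z → X ≤ Y → X ≤ Z → finrank F Y = finrank F X + 1 →
    finrank F Z = finrank F X + 1 → ∃ c, (∀ T ≤ X, sg c T = T) ∧ sg c Y = Z

/-- `f 0 < f 1 < ... < f m` is a flag of singular subspaces -/
structure Fl (S : Submodule F W → Prop) (m : ℕ) (f : ℕ → Submodule F W) : Prop where
  mono : ∀ d < m, f d ≤ f (d + 1)
  rk : ∀ d ≤ m, finrank F (f d) = d
  sing : S (f m)

variable {S : Submodule F W → Prop} {m : ℕ} {f f' : ℕ → Submodule F W}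

theorem Fl.le (hf : Fl S m f) {a b : ℕ} (hab : a ≤ b) (hb : b ≤ m) : f a ≤ f b := by
  induction b, hab using Nat.le_induction with
  | base => exact le_rfl
  | succ b hab ih => exact (ih (by omega)).trans (hf.mono b (by omega))

theorem Fl.si (hS : PolSp S m) (hf : Fl S m f) {d : ℕ} (hd : d ≤ m) : S (f d) :=
  hS.down (hf.le hd le_rfl) hf.sing

theorem eq_of_rk {X Y : Submodule F W} (h : X ≤ Y) (h' : finrank F X = finrank F Y) : X = Y :=
  Submodule.eq_of_le_of_finrank_eq h h'

theorem Fl.zero (hf : Fl S m f) : f 0 = ⊥ := by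
  have := hf.rk 0 (Nat.zero_le _)
  exact Submodule.finrank_eq_zero.1 this

/-- changing one member of a flag -/
theorem Fl.update (hS : PolSp S m) (hf : Fl S m f) {d : ℕ} {X : Submodule F W} (hX : S X)
    (hr : finrank F X = d) (h1 : ∀ e, e + 1 = d → f e ≤ X) (h2 : d < m → X ≤ f (d + 1)) :
    Fl S m (Function.update f d X) where
  mono e he := by
    by_cases h3 : e = d
    · subst h3
      rw [Function.update_self, Function.update_of_ne (by omega)]
      exact h2 he
    · by_cases h4 : e + 1 = d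
      · subst h4
        rw [Function.update_self, Function.update_of_ne (by omega)]
        exact h1 _ rfl
      · rw [Function.update_of_ne h3, Function.update_of_ne h4]
        exact hf.mono e he
  rk e he := by
    by_cases h3 : e = d
    · subst h3; rw [Function.update_self]; exact hr
    · rw [Function.update_of_ne h3]; exact hf.rk e he
  sing := by
    by_cases h3 : m = d
    · subst h3; rw [Function.update_self]; exact hX
    · rw [Function.update_of_ne h3]; exact hf.sing

/-- extending a flag -/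
theorem exists_ext (hS : PolSp S m) {k : ℕ} (hf : Fl S k f) (hk : k ≤ m) :
    ∃ f', Fl S m f' ∧ ∀ d ≤ k, f' d = f d := by
  have key : ∀ j, k + j ≤ m → ∃ f', Fl S (k + j) f' ∧ ∀ d ≤ k, f' d = f d := by
    intro j
    induction j with
    | zero => intro _; exact ⟨f, hf, fun _ _ => rfl⟩
    | succ j ih =>
      intro hj
      obtain ⟨f', h1, h2⟩ := ih (by omega)
      have h3 := h1.rk (k + j) le_rfl
      obtain ⟨Y, hY, hY1, hY2⟩ := hS.ext _ h1.sing (by omega)
      refine ⟨Function.update f' (k + j + 1) Y, ⟨?_, ?_, ?_⟩, ?_⟩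
      · intro e he
        rw [Function.update_of_ne (by omega)]
        by_cases h4 : e = k + j
        · subst h4; rw [Function.update_self]; exact hY1
        · rw [Function.update_of_ne (by omega)]; exact h1.mono e (by omega)
      · intro e he
        by_cases h4 : e = k + j + 1
        · subst h4; rw [Function.update_self, hY2, h3]
        · rw [Function.update_of_ne h4]; exact h1.rk e (by omega)
      · show S (Function.update f' (k + j + 1) Y (k + j + 1))
        rw [Function.update_self]; exact hY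
      · intro d hd
        rw [Function.update_of_ne (by omega)]; exact h2 d hd
  obtain ⟨j, rfl⟩ := Nat.exists_eq_add_of_le hk
  exact key j le_rfl

theorem exists_fl (hS : PolSp S m) : ∃ f, Fl S m f := by
  have h : Fl S 0 (fun _ => (⊥ : Submodule F W)) := ⟨fun _ _ => le_rfl, fun d hd => by
    obtain rfl : d = 0 := by omega
    exact finrank_bot F W, hS.bot⟩
  obtain ⟨f, hf, -⟩ := exists_ext hS h (Nat.zero_le _)
  exact ⟨f, hf⟩

section act

variable {C : Type*} [Group C] {sg : C →* Equiv.Perm (Submodule F W)}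

theorem Act.le_iff (hA : Act sg S) (c : C) {X Y : Submodule F W} : sg c X ≤ sg c Y ↔ X ≤ Y := by
  refine ⟨fun h => ?_, hA.le c⟩
  have := hA.le c⁻¹ h
  rw [map_inv] at this
  change (sg c).symm (sg c X) ≤ (sg c).symm (sg c Y) at this
  rwa [Equiv.symm_apply_apply, Equiv.symm_apply_apply] at this

/-- **`C` is transitive on the flags** -/
theorem trans (hA : Act sg S) (hS : PolSp S m) (hf : Fl S m f) (hf' : Fl S m f') :
    ∃ c, ∀ d ≤ m, sg c (f d) = f' d := by
  have key : ∀ k ≤ m, ∃ c, ∀ d ≤ k, sg c (f d) = f' d := by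
    intro k
    induction k with
    | zero =>
      intro _
      refine ⟨1, fun d hd => ?_⟩
      obtain rfl : d = 0 := by omega
      rw [hf.zero, hf'.zero]; simp
    | succ k ih =>
      intro hk
      obtain ⟨c, hc⟩ := ih (by omega)
      obtain ⟨c', h1, h2⟩ := hA.tr (f' k) (sg c (f (k + 1))) (f' (k + 1)) (hA.sing c (hf.si hS hk))
        (hf'.si hS hk) (by rw [← hc k le_rfl]; exact hA.le c (hf.mono k (by omega)))
        (hf'.mono k (by omega)) (by rw [hA.rk, hf.rk _ hk, hf'.rk k (by omega)])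
        (by rw [hf'.rk _ hk, hf'.rk k (by omega)])
      refine ⟨c' * c, fun d hd => ?_⟩
      rw [map_mul, Equiv.Perm.mul_apply]
      by_cases h3 : d = k + 1
      · subst h3; exact h2
      · rw [hc d (by omega)]
        exact h1 _ (hf'.le (by omega) (by omega))
  exact key m le_rfl

end act

/-! ### Flag stabilisers -/

variable {G : Type*} [Group G] {C : Subgroup G} {sg : ↥C →* Equiv.Perm (Submodule F W)}

/-- the stabiliser in `C` of the members of the flag `f` outside `J` -/
def fst (C : Subgroup G) (sg : ↥C →* Equiv.Perm (Submodule F W)) (m : ℕ) (f : ℕ → Submodule F W)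
    (J : Set ℕ) : Subgroup G where
  carrier := {x | ∃ h : x ∈ C, ∀ d ≤ m, d ∉ J → sg ⟨x, h⟩ (f d) = f d}
  one_mem' := ⟨C.one_mem, fun d _ _ => by
    rw [show (⟨1, C.one_mem⟩ : ↥C) = 1 from rfl, map_one]; rfl⟩
  mul_mem' := by
    rintro x y ⟨hx, hx'⟩ ⟨hy, hy'⟩
    refine ⟨mul_mem hx hy, fun d hd hJ => ?_⟩
    rw [show (⟨x * y, mul_mem hx hy⟩ : ↥C) = ⟨x, hx⟩ * ⟨y, hy⟩ from rfl, map_mul, Equiv.Perm.mul_apply,
      hy' d hd hJ, hx' d hd hJ]
  inv_mem' := by
    rintro x ⟨hx, hx'⟩
    refine ⟨inv_mem hx, fun d hd hJ => ?_⟩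
    rw [show (⟨x⁻¹, inv_mem hx⟩ : ↥C) = (⟨x, hx⟩ : ↥C)⁻¹ from rfl, map_inv, Equiv.Perm.inv_eq_iff_eq,
      hx' d hd hJ]

theorem mem_fst {x : G} {J : Set ℕ} :
    x ∈ fst C sg m f J ↔ ∃ h : x ∈ C, ∀ d ≤ m, d ∉ J → sg ⟨x, h⟩ (f d) = f d := Iff.rfl

theorem coe_mem_fst {c : ↥C} {J : Set ℕ} :
    (c : G) ∈ fst C sg m f J ↔ ∀ d ≤ m, d ∉ J → sg c (f d) = f d :=
  ⟨fun h => h.2, fun h => ⟨c.2, h⟩⟩

theorem fst_le {J : Set ℕ} : fst C sg m f J ≤ C := fun _ h => h.1

theorem fst_mono {J J' : Set ℕ} (h : J ⊆ J') : fst C sg m f J ≤ fst C sg m f J' :=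
  fun _ hx => ⟨hx.1, fun d hd hJ => hx.2 d hd fun hh => hJ (h hh)⟩

/-- the action of a flag stabiliser -/
def act (C : Subgroup G) (sg : ↥C →* Equiv.Perm (Submodule F W)) (m : ℕ) (f : ℕ → Submodule F W)
    (J : Set ℕ) : ↥(fst C sg m f J) →* Equiv.Perm (Submodule F W) :=
  sg.comp (Subgroup.inclusion fst_le)

theorem act_apply {J : Set ℕ} (x : ↥(fst C sg m f J)) (X : Submodule F W) :
    act C sg m f J x X = sg ⟨(x : G), x.2.1⟩ X := rfl

/-- the points of the residue `{i, j}` -/
def Pt (S : Submodule F W → Prop) (m : ℕ) (f : ℕ → Submodule F W) (i j : ℕ) : Set (Submodule F W) :=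
  {X | S X ∧ finrank F X = i ∧ (∀ d < i, f d ≤ X) ∧ ∀ d ≤ m, i < d → d ≠ j → X ≤ f d}

/-- the lines of the residue `{i, j}` -/
def Ln (S : Submodule F W → Prop) (m : ℕ) (f : ℕ → Submodule F W) (i j : ℕ) : Set (Submodule F W) :=
  {X | S X ∧ finrank F X = j ∧ (∀ d < j, d ≠ i → f d ≤ X) ∧ ∀ d ≤ m, j < d → X ≤ f d}

section res

variable {I : Type*} {P : I → Subgroup G} {a b : I} {i j : ℕ}

theorem f_mem_Pt (hS : PolSp S m) (hf : Fl S m f) (him : i ≤ m) : f i ∈ Pt S m f i j :=
  ⟨hf.si hS him, hf.rk i him, fun _ hd => hf.le hd.le him, fun _ hd h _ => hf.le h.le hd⟩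

theorem f_mem_Ln (hS : PolSp S m) (hf : Fl S m f) (hjm : j ≤ m) : f j ∈ Ln S m f i j :=
  ⟨hf.si hS hjm, hf.rk j hjm, fun _ hd _ => hf.le hd.le hjm, fun _ hd h => hf.le h.le hd⟩

/-- **the residue `{i, j}` is a geometry of points and lines** -/
theorem inc (hS : PolSp S m) (hA : Act sg S) (hf : Fl S m f) (hB : ∀ k, fst C sg m f ∅ ≤ P k)
    (ha : P a = fst C sg m f {i}) (hb : P b = fst C sg m f {j}) (hij : i < j) (hj : j ≤ m) :
    Inc (fst C sg m f ∅) P a b (fst C sg m f {i, j}) (act C sg m f {i, j}) (act C sg m f {i, j})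
      (Pt S m f i j) (Ln S m f i j) (fun X Y => X ≤ Y) (f i) (f j) where
  le := hB
  iH := by rw [ha]; exact fst_mono (by simp)
  jH := by rw [hb]; exact fst_mono (by simp)
  p0 := f_mem_Pt hS hf (by omega)
  L0 := f_mem_Ln hS hf hj
  inc0 := hf.le hij.le hj
  aPt := by
    rintro x X ⟨h1, h2, h3, h4⟩
    rw [act_apply]
    refine ⟨hA.sing _ h1, by rw [hA.rk, h2], fun d hd => ?_, fun d hd h5 h6 => ?_⟩
    · rw [← x.2.2 d (by omega) (by simp; omega)]; exact hA.le _ (h3 d hd)
    · rw [← x.2.2 d hd (by simp; omega)]; exact hA.le _ (h4 d hd h5 h6)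
  bLn := by
    rintro x X ⟨h1, h2, h3, h4⟩
    rw [act_apply]
    refine ⟨hA.sing _ h1, by rw [hA.rk, h2], fun d hd h5 => ?_, fun d hd h5 => ?_⟩
    · rw [← x.2.2 d (by omega) (by simp; omega)]; exact hA.le _ (h3 d hd h5)
    · rw [← x.2.2 d hd (by simp; omega)]; exact hA.le _ (h4 d hd h5)
  inv := fun x p _ L _ h => hA.le _ h
  memB x := by
    constructor
    · intro h
      exact ⟨h.2 i (by omega) (by simp), h.2 j hj (by simp)⟩
    · rintro ⟨h1, h2⟩
      refine ⟨x.2.1, fun d hd _ => ?_⟩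
      by_cases h3 : d = i
      · subst h3; exact h1
      · by_cases h4 : d = j
        · subst h4; exact h2
        · exact x.2.2 d hd (by simp [h3, h4])
  memi x := by
    rw [ha]
    constructor
    · intro h
      exact h.2 j hj (by simp; omega)
    · intro h1
      refine ⟨x.2.1, fun d hd h3 => ?_⟩
      by_cases h4 : d = j
      · subst h4; exact h1
      · exact x.2.2 d hd (by simp only [Set.mem_singleton_iff] at h3; simp [h3, h4])
  memj x := by
    rw [hb]
    constructor
    · intro h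
      exact h.2 i (by omega) (by simp; omega)
    · intro h1
      refine ⟨x.2.1, fun d hd h3 => ?_⟩
      by_cases h4 : d = i
      · subst h4; exact h1
      · exact x.2.2 d hd (by simp only [Set.mem_singleton_iff] at h3; simp [h3, h4])
  tri := by
    rintro X ⟨h1, h2, h3, h4⟩ h5
    have hu : Fl S m (Function.update f i X) := hf.update hS h1 h2 (fun e he => h3 e (by omega)) (fun h6 => by
      by_cases h7 : i + 1 = j
      · rw [h7]; exact h5
      · exact h4 _ (by omega) (by omega) h7)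
    obtain ⟨c, hc⟩ := trans hA hS hf hu
    have hmem : (c : G) ∈ fst C sg m f {i, j} := by
      rw [coe_mem_fst]
      intro d hd hJ
      have h6 := hc d hd
      rwa [Function.update_of_ne (by rintro rfl; simp at hJ)] at h6
    refine ⟨⟨c, hmem⟩, ?_, ?_⟩
    · rw [act_apply]
      have h6 := hc j hj
      rwa [Function.update_of_ne (by omega)] at h6
    · rw [act_apply]
      have h6 := hc i (by omega)
      rwa [Function.update_self] at h6
  trj := by
    rintro X ⟨h1, h2, h3, h4⟩ h5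
    have hu : Fl S m (Function.update f j X) := hf.update hS h1 h2 (fun e he => by
      by_cases h7 : e = i
      · subst h7; exact h5
      · exact h3 e (by omega) h7) (fun h6 => h4 _ (by omega) (by omega))
    obtain ⟨c, hc⟩ := trans hA hS hf hu
    have hmem : (c : G) ∈ fst C sg m f {i, j} := by
      rw [coe_mem_fst]
      intro d hd hJ
      have h6 := hc d hd
      rwa [Function.update_of_ne (by rintro rfl; simp at hJ)] at h6
    refine ⟨⟨c, hmem⟩, ?_, ?_⟩
    · rw [act_apply]
      have h6 := hc i (by omega)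
      rwa [Function.update_of_ne (by omega)] at h6
    · rw [act_apply]
      have h6 := hc j hj
      rwa [Function.update_self] at h6

variable (hS : PolSp S m) (hA : Act sg S) (hf : Fl S m f) (hB : ∀ k, fst C sg m f ∅ ≤ P k)
  (ha : P a = fst C sg m f {i}) (hb : P b = fst C sg m f {j})

include hS hA hf hB ha hb

theorem rk_two (hij : i + 1 < j) (hj : j ≤ m) :
    Rk (fst C sg m f ∅) P a b 2 ∧ Rk (fst C sg m f ∅) P b a 2 := by
  have h := inc hS hA hf hB ha hb (by omega) hj
  have key : ∀ p ∈ Pt S m f i j, ∀ L ∈ Ln S m f i j, p ≤ L := by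
    rintro p ⟨-, -, -, h4⟩ L ⟨-, -, h3, -⟩
    exact (h4 (i + 1) (by omega) (by omega) (by omega)).trans (h3 (i + 1) (by omega) (by omega))
  exact ⟨h.rk_two key, h.symm.rk_two fun L hL p hp => key p hp L hL⟩

omit hA hB ha hb in
theorem sup_rk {p p' : Submodule F W} (hi : 1 ≤ i) (hij : i ≤ m)
    (hp : p ∈ Pt S m f i j) (hp' : p' ∈ Pt S m f i j)
    (hne : p ≠ p') : finrank F ↥(p ⊓ p') + 1 = i ∧ finrank F ↥(p ⊔ p') = i + 1 := by
  have h1 := Submodule.finrank_sup_add_finrank_inf_eq p p'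
  have h2 : f (i - 1) ≤ p ⊓ p' := le_inf (hp.2.2.1 _ (by omega)) (hp'.2.2.1 _ (by omega))
  have h3 := Submodule.finrank_mono h2
  rw [hf.rk (i - 1) (by omega)] at h3
  have h4 : finrank F ↥(p ⊓ p') < i := by
    rcases (Submodule.finrank_mono (inf_le_left : p ⊓ p' ≤ p)).lt_or_eq with h | h
    · rwa [hp.2.1] at h
    · exfalso
      have h5 := eq_of_rk inf_le_left h
      have h6 : p ≤ p' := by rw [← h5]; exact inf_le_right
      exact hne (eq_of_rk h6 (by rw [hp.2.1, hp'.2.1]))
  rw [hp.2.1, hp'.2.1] at h1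
  omega

theorem rk_three (hi : 1 ≤ i) (hij : i + 1 = j) (hj : j < m) :
    Rk (fst C sg m f ∅) P a b 3 ∧ Rk (fst C sg m f ∅) P b a 3 := by
  subst hij
  have h := inc hS hA hf hB ha hb (by omega) hj.le
  have lf : ∀ L ∈ Ln S m f i (i + 1), L ≤ f (i + 2) := fun L hL => hL.2.2.2 _ (by omega) (by omega)
  have pf : ∀ p ∈ Pt S m f i (i + 1), p ≤ f (i + 2) := fun L hL => hL.2.2.2 _ (by omega) (by omega) (by omega)
  have key : ∀ p ∈ Pt S m f i (i + 1), ∀ p' ∈ Pt S m f i (i + 1), p ≠ p' → ∀ L ∈ Ln S m f i (i + 1),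
      p ≤ L → p' ≤ L → p ⊔ p' = L := fun p hp p' hp' hne L hL h1 h2 =>
    eq_of_rk (sup_le h1 h2) (by rw [(sup_rk hS hf hi (by omega) hp hp' hne).2, hL.2.1])
  have P2 : ∀ p ∈ Pt S m f i (i + 1), ∀ p' ∈ Pt S m f i (i + 1), p ≠ p' → ∀ L ∈ Ln S m f i (i + 1),
      ∀ L' ∈ Ln S m f i (i + 1), p ≤ L → p' ≤ L → p ≤ L' → p' ≤ L' → L = L' :=
    fun p hp p' hp' hne L hL L' hL' h1 h2 h3 h4 => by
      rw [← key p hp p' hp' hne L hL h1 h2, ← key p hp p' hp' hne L' hL' h3 h4]
  constructor
  · refine h.rk_three (fun p hp p' hp' hne => ?_) P2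
    refine ⟨p ⊔ p', ⟨?_, ?_, ?_, ?_⟩, le_sup_left, le_sup_right⟩
    · exact hS.down (sup_le (pf p hp) (pf p' hp')) (hf.si hS (by omega))
    · exact (sup_rk hS hf hi (by omega) hp hp' hne).2
    · intro d hd hdi
      exact (hp.2.2.1 d (by omega)).trans le_sup_left
    · intro d hd hid
      exact (sup_le (pf p hp) (pf p' hp')).trans (hf.le (by omega) hd)
  · refine h.symm.rk_three (fun L hL L' hL' hne => ?_)
      (fun L hL L' hL' hne p hp p' hp' h1 h2 h3 h4 => ?_)
    · have h1 := Submodule.finrank_sup_add_finrank_inf_eq L L'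
      have h2 : L ⊔ L' ≤ f (i + 2) := sup_le (lf L hL) (lf L' hL')
      have h3 := Submodule.finrank_mono h2
      rw [hf.rk (i + 2) (by omega)] at h3
      have h4 : i + 1 < finrank F ↥(L ⊔ L') := by
        rcases (Submodule.finrank_mono (le_sup_left : L ≤ L ⊔ L')).lt_or_eq with h | h
        · rwa [hL.2.1] at h
        · exfalso
          have h5 := eq_of_rk le_sup_left h
          have h6 : L' ≤ L := by rw [h5]; exact le_sup_right
          exact hne (eq_of_rk h6 (by rw [hL.2.1, hL'.2.1])).symm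
      rw [hL.2.1, hL'.2.1] at h1
      refine ⟨L ⊓ L', ⟨hS.down inf_le_left hL.1, by omega, fun d hd => ?_, fun d hd h5 h6 => ?_⟩,
        inf_le_left, inf_le_right⟩
      · exact le_inf (hL.2.2.1 d (by omega) (by omega)) (hL'.2.2.1 d (by omega) (by omega))
      · exact inf_le_left.trans (hL.2.2.2 d hd (by omega))
    · by_contra h5
      exact hne (P2 p hp p' hp' h5 L hL L' hL' h1 h3 h2 h4)

theorem rk_four (hi : 1 ≤ i) (hij : i + 1 = j) (hj : j = m) :
    Rk (fst C sg m f ∅) P a b 4 ∧ Rk (fst C sg m f ∅) P b a 4 := by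
  subst hij
  have h := inc hS hA hf hB ha hb (by omega) hj.le
  have Q0 : ∀ p ∈ Pt S m f i (i + 1), ∀ p' ∈ Pt S m f i (i + 1), p ≠ p' → ∀ L ∈ Ln S m f i (i + 1),
      ∀ L' ∈ Ln S m f i (i + 1), p ≤ L → p' ≤ L → p ≤ L' → p' ≤ L' → L = L' :=
    fun p hp p' hp' hne L hL L' hL' h1 h2 h3 h4 => by
      have e1 : p ⊔ p' = L :=
        eq_of_rk (sup_le h1 h2) (by rw [(sup_rk hS hf hi (by omega) hp hp' hne).2, hL.2.1])
      have e2 : p ⊔ p' = L' :=
        eq_of_rk (sup_le h3 h4) (by rw [(sup_rk hS hf hi (by omega) hp hp' hne).2, hL'.2.1])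
      rw [← e1, ← e2]
  have R : ∀ p ∈ Pt S m f i (i + 1), ∀ L ∈ Ln S m f i (i + 1), ¬ p ≤ L → finrank F ↥(p ⊓ L) + 2 = m := by
    intro p hp L hL hn
    have h2 : f (i - 1) ≤ p ⊓ L := le_inf (hp.2.2.1 _ (by omega)) (hL.2.2.1 _ (by omega) (by omega))
    have h3 := Submodule.finrank_mono h2
    rw [hf.rk (i - 1) (by omega)] at h3
    have h4 : finrank F ↥(p ⊓ L) < i := by
      rcases (Submodule.finrank_mono (inf_le_left : p ⊓ L ≤ p)).lt_or_eq with h | h
      · rwa [hp.2.1] at h
      · exact absurd (by rw [← eq_of_rk inf_le_left h]; exact inf_le_right) hn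
    omega
  have Q1 : ∀ p ∈ Pt S m f i (i + 1), ∀ L ∈ Ln S m f i (i + 1), ¬ p ≤ L →
      ∃ p' ∈ Pt S m f i (i + 1), ∃ L' ∈ Ln S m f i (i + 1), p ≤ L' ∧ p' ≤ L' ∧ p' ≤ L := by
    intro p hp L hL hn
    obtain ⟨Z, hZ, hZ1, hZ2, hZ3⟩ := hS.ex p L hp.1 hL.1 (by rw [hp.2.1]; omega) (by rw [hL.2.1]; omega) hn
      (R p hp L hL hn)
    have fZ : ∀ d < i, f d ≤ Z := fun d hd => (hp.2.2.1 d hd).trans hZ1
    refine ⟨Z ⊓ L, ⟨hS.down inf_le_left hZ, by omega, fun d hd => ?_, fun d hd h5 h6 => ?_⟩, Z,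
      ⟨hZ, by omega, fun d hd h5 => fZ d (by omega), fun d hd h5 => ?_⟩, hZ1, inf_le_left, inf_le_right⟩
    · exact le_inf (fZ d hd) (hL.2.2.1 d (by omega) (by omega))
    · omega
    · omega
  have Q2 : ∀ p ∈ Pt S m f i (i + 1), ∀ L ∈ Ln S m f i (i + 1), ¬ p ≤ L → ∀ p' ∈ Pt S m f i (i + 1),
      ∀ L' ∈ Ln S m f i (i + 1), ∀ p'' ∈ Pt S m f i (i + 1), ∀ L'' ∈ Ln S m f i (i + 1), p ≤ L' → p' ≤ L' →
      p' ≤ L → p ≤ L'' → p'' ≤ L'' → p'' ≤ L → p' = p'' ∧ L' = L'' := by
    intro p hp L hL hn p' hp' L' hL' p'' hp'' L'' hL'' h1 h2 h3 h4 h5 h6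
    have key : ∀ p' ∈ Pt S m f i (i + 1), ∀ L' ∈ Ln S m f i (i + 1), p ≤ L' → p' ≤ L' → p' ≤ L →
        p' = L' ⊓ L ∧ finrank F ↥(L' ⊓ L) + 1 = m := by
      intro p' hp' L' hL' h1 h2 h3
      have k1 : p' ≤ L' ⊓ L := le_inf h2 h3
      have k2 := Submodule.finrank_mono k1
      have k3 : finrank F ↥(L' ⊓ L) < i + 1 := by
        rcases (Submodule.finrank_mono (inf_le_right : L' ⊓ L ≤ L)).lt_or_eq with h | h
        · rwa [hL.2.1] at h
        · exfalso
          have k4 := eq_of_rk inf_le_right h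
          have k5 : L ≤ L' := by rw [← k4]; exact inf_le_left
          have k6 := eq_of_rk k5 (by rw [hL.2.1, hL'.2.1])
          exact hn (by rw [k6]; exact h1)
      rw [hp'.2.1] at k2
      exact ⟨eq_of_rk k1 (by rw [hp'.2.1]; omega), by omega⟩
    obtain ⟨e1, e2⟩ := key p' hp' L' hL' h1 h2 h3
    obtain ⟨e3, e4⟩ := key p'' hp'' L'' hL'' h4 h5 h6
    have e5 : L' = L'' := hS.uq p L L' L'' hp.1 hL.1 hL'.1 hL''.1 (by rw [hp.2.1]; omega)
      (by rw [hL.2.1]; omega) (by rw [hL'.2.1]; omega) (by rw [hL''.2.1]; omega) hn (R p hp L hL hn) h1 h4 e2 e4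
    exact ⟨by rw [e1, e3, e5], e5⟩
  refine ⟨h.rk_four Q0 Q1 Q2, h.symm.rk_four (fun L hL L' hL' hne p hp p' hp' h1 h2 h3 h4 => ?_)
    (fun L hL p hp hn => ?_) (fun L hL p hp hn L' hL' p' hp' L'' hL'' p'' hp'' h1 h2 h3 h4 h5 h6 => ?_)⟩
  · by_contra h5
    exact hne (Q0 p hp p' hp' h5 L hL L' hL' h1 h3 h2 h4)
  · obtain ⟨p', hp', L', hL', h1, h2, h3⟩ := Q1 p hp L hL hn
    exact ⟨L', hL', p', hp', h3, h2, h1⟩
  · obtain ⟨e1, e2⟩ := Q2 p hp L hL hn p' hp' L' hL' p'' hp'' L'' hL'' h3 h2 h1 h6 h5 h4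
    exact ⟨e2, e1⟩

end res

/-! ### The panels -/

/-- the members of the panel `j` -/
def Pan (S : Submodule F W → Prop) (m : ℕ) (f : ℕ → Submodule F W) (j : ℕ) : Set (Submodule F W) :=
  {X | S X ∧ finrank F X = j ∧ (∀ d, d + 1 = j → f d ≤ X) ∧ (j < m → X ≤ f (j + 1))}

theorem relIndex_eq_card {α : Type*} {B P : Subgroup G} (ψ : ↥P → α) {X : Set α}
    (h : ∀ x y : ↥P, (x : G)⁻¹ * (y : G) ∈ B ↔ ψ x = ψ y) (h1 : ∀ x, ψ x ∈ X) (h2 : ∀ a ∈ X, ∃ x, ψ x = a) :
    B.relIndex P = Nat.card X := by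
  have e : ∀ x y : ↥P, (QuotientGroup.leftRel (B.subgroupOf P)) x y ↔ ψ x = ψ y := by
    intro x y
    rw [QuotientGroup.leftRel_apply, Subgroup.mem_subgroupOf]
    exact h x y
  let g : ↥P ⧸ B.subgroupOf P → X :=
    Quotient.lift (fun x => (⟨ψ x, h1 x⟩ : X)) fun x y hxy => Subtype.ext ((e x y).1 hxy)
  have hg : Function.Bijective g := by
    constructor
    · intro x y
      induction x using Quotient.inductionOn with
      | _ x =>
      induction y using Quotient.inductionOn with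
      | _ y =>
      intro hxy
      exact Quotient.sound ((e x y).2 (congrArg Subtype.val hxy))
    · rintro ⟨a, ha⟩
      obtain ⟨x, hx⟩ := h2 a ha
      exact ⟨Quotient.mk _ x, Subtype.ext hx⟩
  exact Nat.card_congr (Equiv.ofBijective g hg)

/-- the transitivity of a panel stabiliser -/
theorem exists_pan (hS : PolSp S m) (hA : Act sg S) (hf : Fl S m f) {j : ℕ} (hj : j ≤ m)
    {X : Submodule F W} (hX : X ∈ Pan S m f j) :
    ∃ c : ↥C, (c : G) ∈ fst C sg m f {j} ∧ sg c (f j) = X := by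
  obtain ⟨h1, h2, h3, h4⟩ := hX
  obtain ⟨c, hc⟩ := trans hA hS hf (hf.update hS h1 h2 h3 h4)
  refine ⟨c, ?_, ?_⟩
  · rw [coe_mem_fst]
    intro d hd hJ
    have h6 := hc d hd
    rwa [Function.update_of_ne (by rintro rfl; simp at hJ)] at h6
  · have h6 := hc j hj
    rwa [Function.update_self] at h6

theorem mem_pan (hA : Act sg S) (hS : PolSp S m) (hf : Fl S m f) {j : ℕ} (hj : j ≤ m) {x : G}
    (hx : x ∈ fst C sg m f {j}) : sg ⟨x, hx.1⟩ (f j) ∈ Pan S m f j := by
  refine ⟨hA.sing _ (hf.si hS hj), by rw [hA.rk, hf.rk j hj], fun d hd => ?_, fun hjm => ?_⟩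
  · rw [← hx.2 d (by omega) (by simp; omega)]
    exact hA.le _ (hf.le (by omega) hj)
  · rw [← hx.2 (j + 1) (by omega) (by simp)]
    exact hA.le _ (hf.mono j hjm)

/-- **the number of chambers of a panel** -/
theorem relIndex_fst (hS : PolSp S m) (hA : Act sg S) (hf : Fl S m f) {j : ℕ} (hj : j ≤ m) :
    (fst C sg m f ∅).relIndex (fst C sg m f {j}) = Nat.card (Pan S m f j) := by
  refine relIndex_eq_card (fun x : ↥(fst C sg m f {j}) => sg ⟨(x : G), x.2.1⟩ (f j)) (fun x y => ?_)
    (fun x => mem_pan hA hS hf hj x.2) (fun X hX => ?_)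
  · have e : (x : G)⁻¹ * (y : G) = (((⟨(x : G), x.2.1⟩ : ↥C)⁻¹ * ⟨(y : G), y.2.1⟩ : ↥C) : G) := rfl
    rw [e, coe_mem_fst]
    constructor
    · intro h
      have := h j hj (by simp)
      rw [map_mul, map_inv, Equiv.Perm.mul_apply, Equiv.Perm.inv_eq_iff_eq] at this
      exact this.symm
    · intro h d hd _
      rw [map_mul, map_inv, Equiv.Perm.mul_apply, Equiv.Perm.inv_eq_iff_eq]
      by_cases hdj : d = j
      · subst hdj; exact h.symm
      · rw [x.2.2 d hd (by simpa using hdj), y.2.2 d hd (by simpa using hdj)]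
  · obtain ⟨c, hc, h⟩ := exists_pan hS hA hf hj hX
    exact ⟨⟨c, hc⟩, h⟩

/-! ### Connectivity -/

theorem mem_of_flag (hS : PolSp S m) (hA : Act sg S) (hf : Fl S m f) {N : Subgroup G}
    (hN : ∀ j, 1 ≤ j → j ≤ m → fst C sg m f {j} ≤ N) {g g' : ℕ → Submodule F W} (hg' : Fl S m g')
    {j : ℕ} (hj1 : 1 ≤ j) (hj : j ≤ m) (hadj : ∀ d ≤ m, d ≠ j → g d = g' d)
    (hn : ∃ c : ↥C, (c : G) ∈ N ∧ ∀ d ≤ m, sg c (f d) = g d) :
    ∃ c : ↥C, (c : G) ∈ N ∧ ∀ d ≤ m, sg c (f d) = g' d := by
  obtain ⟨c, hc, h⟩ := hn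
  have hA' : Fl S m (fun d => sg c⁻¹ (g' d)) :=
    ⟨fun d hd => hA.le _ (hg'.mono d hd), fun d hd => by rw [hA.rk]; exact hg'.rk d hd, hA.sing _ hg'.sing⟩
  obtain ⟨c', hc'⟩ := trans hA hS hf hA'
  have h1 : ∀ d ≤ m, sg (c * c') (f d) = g' d := fun d hd => by
    rw [map_mul, Equiv.Perm.mul_apply, hc' d hd, map_inv]
    exact (sg c).apply_symm_apply _
  refine ⟨c * c', mul_mem hc (hN j hj1 hj ?_), h1⟩
  rw [coe_mem_fst]
  intro d hd hdj
  rw [hc' d hd, ← hadj d hd (by simpa using hdj), ← h d hd, map_inv]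
  exact (sg c).symm_apply_apply _

/-- **`C` is generated by the stabilisers of the panels** -/
theorem le_of_panels (hS : PolSp S m) (hA : Act sg S) (hf : Fl S m f) (hm : 1 ≤ m) {N : Subgroup G}
    (hN : ∀ j, 1 ≤ j → j ≤ m → fst C sg m f {j} ≤ N) : C ≤ N := by
  let R : (ℕ → Submodule F W) → Prop := fun g => ∃ c : ↥C, (c : G) ∈ N ∧ ∀ d ≤ m, sg c (f d) = g d
  -- flags agreeing up to `k` are connected
  have key : ∀ k', ∀ k, k + k' = m → ∀ g g' : ℕ → Submodule F W, Fl S m g → Fl S m g' →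
      (∀ d ≤ k, g d = g' d) → R g → R g' := by
    intro k'
    induction k' with
    | zero =>
      intro k hk g g' hg hg' h1 ⟨c, hc, h2⟩
      exact ⟨c, hc, fun d hd => by rw [h2 d hd, h1 d (by omega)]⟩
    | succ k' ih =>
      intro k hk g g' hg hg' h1 hR
      have ek : g k = g' k := h1 k le_rfl
      by_cases hk' : k' = 0
      · subst hk'
        exact mem_of_flag hS hA hf hN hg' (j := m) hm le_rfl (fun d hd hdm => h1 d (by omega)) hR
      -- the step with `S (x ⊔ x')`
      have step : ∀ g g' : ℕ → Submodule F W, Fl S m g → Fl S m g' → (∀ d ≤ k, g d = g' d) →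
          S (g (k + 1) ⊔ g' (k + 1)) → R g → R g' := by
        intro g g' hg hg' h1 h2 hR
        have ek : g k = g' k := h1 k le_rfl
        by_cases hx : g (k + 1) = g' (k + 1)
        · exact ih (k + 1) (by omega) g g' hg hg' (fun d hd => by
            by_cases hdk : d = k + 1
            · subst hdk; exact hx
            · exact h1 d (by omega)) hR
        -- the line
        have r1 : finrank F ↥(g (k + 1) ⊔ g' (k + 1)) = k + 2 := by
          have h3 := Submodule.finrank_sup_add_finrank_inf_eq (g (k + 1)) (g' (k + 1))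
          have h4 : g k ≤ g (k + 1) ⊓ g' (k + 1) :=
            le_inf (hg.mono k (by omega)) (by rw [ek]; exact hg'.mono k (by omega))
          have h5 := Submodule.finrank_mono h4
          rw [hg.rk k (by omega)] at h5
          have h6 : finrank F ↥(g (k + 1) ⊓ g' (k + 1)) < k + 1 := by
            rcases (Submodule.finrank_mono (inf_le_left : g (k + 1) ⊓ g' (k + 1) ≤ g (k + 1))).lt_or_eq
              with h | h
            · rwa [hg.rk (k + 1) (by omega)] at h
            · exfalso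
              have h7 : g (k + 1) ≤ g' (k + 1) := by rw [← eq_of_rk inf_le_left h]; exact inf_le_right
              exact hx (eq_of_rk h7 (by rw [hg.rk _ (by omega), hg'.rk _ (by omega)]))
          rw [hg.rk _ (by omega), hg'.rk _ (by omega)] at h3
          omega
        -- a flag through `g (k+1)` and the line
        have hfl : Fl S (k + 2) (Function.update g (k + 2) (g (k + 1) ⊔ g' (k + 1))) := by
          refine ⟨fun e he => ?_, fun e he => ?_, ?_⟩
          · rw [Function.update_of_ne (by omega)]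
            by_cases h4 : e = k + 1
            · subst h4; rw [Function.update_self]; exact le_sup_left
            · rw [Function.update_of_ne (by omega)]; exact hg.mono e (by omega)
          · by_cases h4 : e = k + 2
            · subst h4; rw [Function.update_self]; exact r1
            · rw [Function.update_of_ne h4]; exact hg.rk e (by omega)
          · rw [Function.update_self]; exact h2
        obtain ⟨u, hu, hu'⟩ := exists_ext hS hfl (by omega)
        have u1 : ∀ d ≤ k + 1, u d = g d := fun d hd => by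
          rw [hu' d (by omega), Function.update_of_ne (by omega)]
        have u2 : u (k + 2) = g (k + 1) ⊔ g' (k + 1) := by rw [hu' _ le_rfl, Function.update_self]
        have R1 : R u := ih (k + 1) (by omega) g u hg hu (fun d hd => (u1 d hd).symm) hR
        have hv : Fl S m (Function.update u (k + 1) (g' (k + 1))) := by
          refine hu.update hS (hg'.si hS (by omega)) (hg'.rk _ (by omega)) (fun e he => ?_) (fun _ => ?_)
          · obtain rfl : e = k := by omega
            rw [u1 e (by omega), ek]; exact hg'.mono e (by omega)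
          · show g' (k + 1) ≤ u (k + 2)
            rw [u2]; exact le_sup_right
        have R2 : R (Function.update u (k + 1) (g' (k + 1))) :=
          mem_of_flag hS hA hf hN hv (j := k + 1) (by omega) (by omega)
            (fun d hd hdk => by rw [Function.update_of_ne hdk]) R1
        refine ih (k + 1) (by omega) _ g' hv hg' (fun d hd => ?_) R2
        by_cases hdk : d = k + 1
        · subst hdk; rw [Function.update_self]
        · rw [Function.update_of_ne hdk, u1 d (by omega), h1 d (by omega)]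
      obtain ⟨T, hT1, hT2, hT3, hT4⟩ := hS.conn (g k) (g (k + 1)) (g' (k + 1)) (hg.si hS (by omega))
        (hg'.si hS (by omega)) (hg.mono k (by omega)) (by rw [ek]; exact hg'.mono k (by omega))
        (by rw [hg.rk _ (by omega), hg.rk _ (by omega)]) (by rw [hg.rk _ (by omega), hg'.rk _ (by omega)])
        (by rw [hg.rk _ (by omega)]; omega)
      have hfl : Fl S (k + 1) (Function.update g (k + 1) T) := by
        refine ⟨fun e he => ?_, fun e he => ?_, ?_⟩
        · rw [Function.update_of_ne (by omega)]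
          by_cases h4 : e = k
          · subst h4; rw [Function.update_self]; exact hT1
          · rw [Function.update_of_ne (by omega)]; exact hg.mono e (by omega)
        · by_cases h4 : e = k + 1
          · subst h4; rw [Function.update_self, hT2, hg.rk k (by omega)]
          · rw [Function.update_of_ne h4]; exact hg.rk e (by omega)
        · rw [Function.update_self]; exact hS.down le_sup_right hT3
      obtain ⟨u, hu, hu'⟩ := exists_ext hS hfl (by omega)
      have u1 : ∀ d ≤ k, u d = g d := fun d hd => by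
        rw [hu' d (by omega), Function.update_of_ne (by omega)]
      have u2 : u (k + 1) = T := by rw [hu' _ le_rfl, Function.update_self]
      have R1 : R u := step g u hg hu (fun d hd => (u1 d hd).symm) (by rw [u2]; exact hT3) hR
      exact step u g' hu hg' (fun d hd => by rw [u1 d hd, h1 d hd]) (by rw [u2, sup_comm]; exact hT4) R1
  intro x hx
  have h1 : Fl S m (fun d => sg ⟨x, hx⟩ (f d)) :=
    ⟨fun d hd => hA.le _ (hf.mono d hd), fun d hd => by rw [hA.rk]; exact hf.rk d hd, hA.sing _ hf.sing⟩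
  obtain ⟨c, hc, h2⟩ := key m 0 (by omega) f _ hf h1 (fun d hd => by
    obtain rfl : d = 0 := by omega
    exact hf.zero.trans h1.zero.symm) ⟨1, one_mem _, fun d _ => by rw [map_one]; rfl⟩
  have h3 : ((⟨x, hx⟩ : ↥C)⁻¹ * c : ↥C) ∈ (fst C sg m f {1}).subgroupOf C := by
    rw [Subgroup.mem_subgroupOf, coe_mem_fst]
    intro d hd _
    rw [map_mul, map_inv, Equiv.Perm.mul_apply, h2 d hd, Equiv.Perm.inv_eq_iff_eq]
  have h4 : (x⁻¹ * (c : G)) ∈ N := hN 1 le_rfl hm h3
  have h5 : x = (c : G) * (x⁻¹ * (c : G))⁻¹ := by group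
  rw [h5]
  exact mul_mem hc (inv_mem h4)

end Cfsg.Agent.ParSys.Polar.Flags
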