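import Mathlib
import Cfsg.Agent.ParSys.Polar.Herm

/-!
# Groups of semilinear similitudes which contain the Siegel transformations

`HAct H rho sigma` : `C` acts on the hermitian space by semilinear similitudes and induces all the Siegel
transformations; `sigma` is the action on the subspaces.
`act : Act sigma (TI g)`; `exists_fl_of` : a flag through a given isotropic point.
-/

set_option autoImplicit false
set_option linter.unusedSectionVars false

namespace Cfsg.Agent.ParSys.Polar.Hermit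

open Module Cfsg.Agent.ParSys.Polar.Flags

variable {F W : Type*} [Field F] [AddCommGroup W] [Module F W]

/-- `C` acts by semilinear similitudes and induces all the Siegel transformations -/
structure HAct {C : Type*} [Group C] (sg : F →+* F) (g : W → W → F) (rho : C → W ≃+ W)
    (sigma : C →* Equiv.Perm (Submodule F W)) : Prop where
  mul : ∀ a b v, rho (a * b) v = rho a (rho b v)
  sig : ∀ c X w, w ∈ sigma c X ↔ ∃ v ∈ X, rho c v = w
  semi : ∀ c, ∃ (τ : F →+* F) (μ : F), μ ≠ 0 ∧ (∀ (s : F) v, rho c (s • v) = τ s • rho c v) ∧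
    ∀ u v, g (rho c u) (rho c v) = μ * τ (g u v)
  siegel : ∀ (y w : W) (a : F), g y y = 0 → g w y = 0 → a + sg a = g w w →
    ∃ c, ∀ v, rho c v = v + g v y • w + (g v w + a * g v y) • y

namespace HAct

variable {C : Type*} [Group C] {q : ℕ} {sg : F →+* F} {g : W → W → F} {rho : C → W ≃+ W}
  {sigma : C →* Equiv.Perm (Submodule F W)} (H : Herm q sg g) (A : HAct sg g rho sigma)

include A

theorem one (v : W) : rho 1 v = v := by
  have h := A.mul 1 1 v
  rw [mul_one] at h
  exact (rho 1).injective h.symm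

theorem inv_mul_apply (c : C) (v : W) : rho c⁻¹ (rho c v) = v := by
  rw [← A.mul, inv_mul_cancel, A.one]

theorem mul_inv_apply (c : C) (v : W) : rho c (rho c⁻¹ v) = v := by
  rw [← A.mul, mul_inv_cancel, A.one]

theorem mem {c : C} {X : Submodule F W} {v : W} (hv : v ∈ X) : rho c v ∈ sigma c X := (A.sig c X _).2 ⟨v, hv, rfl⟩

theorem mem_iff {c : C} {X : Submodule F W} {v : W} : rho c v ∈ sigma c X ↔ v ∈ X :=
  ⟨fun h => by
    obtain ⟨u, hu, h1⟩ := (A.sig c X _).1 h
    rwa [← (rho c).injective h1], A.mem⟩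

theorem card_eq [Finite F] [FiniteDimensional F W] (c : C) (X : Submodule F W) :
    finrank F ↥(sigma c X) = finrank F X := by
  let e : X → sigma c X := fun v => ⟨rho c (v : W), A.mem v.2⟩
  have he : Function.Bijective e := by
    constructor
    · intro v u h
      exact Subtype.ext ((rho c).injective (congrArg Subtype.val h))
    · rintro ⟨w, hw⟩
      obtain ⟨v, hv, rfl⟩ := (A.sig c X w).1 hw
      exact ⟨⟨v, hv⟩, rfl⟩
  have h1 := Nat.card_congr (Equiv.ofBijective e he)
  rw [Module.natCard_eq_pow_finrank (K := F), Module.natCard_eq_pow_finrank (K := F) (V := ↥(sigma c X))] at h1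
  exact (Nat.pow_right_injective (Finite.one_lt_card (α := F)) h1).symm

theorem eq_of_fix {c : C} {X : Submodule F W} (h : ∀ v ∈ X, rho c v = v) : sigma c X = X := by
  ext w
  rw [A.sig]
  constructor
  · rintro ⟨v, hv, rfl⟩; rwa [h v hv]
  · intro hw; exact ⟨w, hw, h w hw⟩

include H

/-- the image of the span -/
theorem sigma_sup_span {c : C} {X : Submodule F W} {x x' : W} (hX : ∀ v ∈ X, rho c v = v)
    (hx : rho c x - x' ∈ X) [Finite F] [FiniteDimensional F W] (h0 : x ∉ X) :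
    sigma c (X ⊔ (F ∙ x)) = X ⊔ (F ∙ x') := by
  have hx' : x' ∉ X := by
    intro h
    have h1 : rho c x ∈ X := by
      have := X.add_mem hx h
      rwa [sub_add_cancel] at this
    rw [← A.eq_of_fix hX, A.mem_iff] at h1
    exact h0 h1
  symm
  apply eq_of_rk
  · refine sup_le ?_ ?_
    · intro v hv
      rw [← hX v hv]
      exact A.mem (Submodule.mem_sup_left hv)
    · rw [Submodule.span_singleton_le_iff_mem]
      have h1 : x' = rho c x - (rho c x - x') := by abel
      rw [h1]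
      refine Submodule.sub_mem _ (A.mem (Submodule.mem_sup_right (Submodule.mem_span_singleton_self x))) ?_
      rw [← hX _ hx]
      exact A.mem (Submodule.mem_sup_left hx)
  · rw [A.card_eq, Submodule.finrank_sup_span_singleton h0, Submodule.finrank_sup_span_singleton hx']

/-- the Siegel transformation which maps `x` to `x'` modulo `y` -/
theorem siegel_map {X : Submodule F W} {x x' y : W} (hx : g x x = 0) (hx' : g x' x' = 0) (hy : g y y = 0)
    (hxy : g x y = 1) (hxy' : g x' y = 1) (hX1 : ∀ v ∈ X, g v x = 0) (hX2 : ∀ v ∈ X, g v x' = 0)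
    (hX3 : ∀ v ∈ X, g v y = 0) : ∃ c, (∀ v ∈ X, rho c v = v) ∧ rho c x = x' := by
  obtain ⟨c, hc⟩ := A.siegel y (x' + x) (g x x') hy (by rw [H.add, hxy, hxy', H.two_self])
    (by rw [H.add, H.add_r, H.add_r, hx, hx', ← H.sym]; ring)
  refine ⟨c, fun v hv => ?_, ?_⟩
  · rw [hc, hX3 v hv, H.add_r, hX1 v hv, hX2 v hv]; simp
  · rw [hc, hxy, H.add_r, hx, mul_one, add_zero, H.two_self, zero_smul, add_zero, one_smul, add_comm x' x,
      ← add_assoc, H.two_w, zero_add]

theorem smul_span_eq {x : W} {s : F} (hs : s ≠ 0) : (F ∙ (s • x)) = F ∙ x := by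
  apply le_antisymm
  · rw [Submodule.span_singleton_le_iff_mem]
    exact Submodule.smul_mem _ _ (Submodule.mem_span_singleton_self x)
  · rw [Submodule.span_singleton_le_iff_mem]
    exact Submodule.mem_span_singleton.2 ⟨s⁻¹, by rw [smul_smul, inv_mul_cancel₀ hs, one_smul]⟩

variable [Finite F] [FiniteDimensional F W]

/-- the transitivity -/
theorem tr_span {X : Submodule F W} {x x' : W} (hx : g x x = 0) (hx' : g x' x' = 0)
    (h1 : x ∈ H.perp X) (h1' : x' ∈ H.perp X) (h2 : x ∉ X) (h2' : x' ∉ X) :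
    ∃ c, (∀ v ∈ X, rho c v = v) ∧ sigma c (X ⊔ (F ∙ x)) = X ⊔ (F ∙ x') := by
  -- an isotropic `y` in `X^⊥` not orthogonal to `x`, `x'`
  obtain ⟨y, hy, hyy, hxy, hxy'⟩ : ∃ y ∈ H.perp X, g y y = 0 ∧ g x y ≠ 0 ∧ g x' y ≠ 0 := by
    by_cases hb : g x x' = 0
    · obtain ⟨z, hz, hz1, hz2⟩ : ∃ z ∈ H.perp X, g z x ≠ 0 ∧ g z x' ≠ 0 := by
        obtain ⟨z₁, hz1, hz2⟩ := H.exists_ne h2
        obtain ⟨z₂, hz3, hz4⟩ := H.exists_ne h2'
        by_cases h5 : g z₁ x' = 0
        · by_cases h6 : g z₂ x = 0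
          · exact ⟨z₁ + z₂, (H.perp X).add_mem hz1 hz3, by rwa [H.add, h6, add_zero],
              by rwa [H.add, h5, zero_add]⟩
          · exact ⟨z₂, hz3, h6, hz4⟩
        · exact ⟨z₁, hz1, hz2, h5⟩
      obtain ⟨c, hc⟩ := H.tr_surj (g z z) (H.sg_diag z)
      have hxz : g x z ≠ 0 := H.ne_comm hz1
      refine ⟨z + (c / g x z) • x, (H.perp X).add_mem hz ((H.perp X).smul_mem _ h1), ?_, ?_, ?_⟩
      · have e : g z x = sg (g x z) := H.sym x z
        have hzx := hz1
        rw [H.add, H.add_r, H.add_r, H.smul, H.smul_r, H.smul, H.smul_r, hx, map_div₀, ← e, mul_zero, mul_zero,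
          add_zero, div_mul_cancel₀ _ hxz, div_mul_cancel₀ _ hzx, ← hc]
        have := H.two_self (c + sg c)
        linear_combination this
      · rw [H.add_r, H.smul_r, hx, mul_zero, add_zero]; exact hxz
      · rw [H.add_r, H.smul_r, H.zero_comm hb, mul_zero, add_zero]; exact H.ne_comm hz2
    · have hb' := H.ne_comm hb
      refine ⟨x + (g x' x)⁻¹ • x', (H.perp X).add_mem h1 ((H.perp X).smul_mem _ h1'), ?_, ?_, ?_⟩
      · have e : sg (g x' x) = g x x' := (H.sym x' x).symm
        rw [H.add, H.add_r, H.add_r, H.smul, H.smul_r, H.smul, H.smul_r, hx, hx', map_inv₀, e, mul_zero, mul_zero,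
          inv_mul_cancel₀ hb, inv_mul_cancel₀ hb']
        have := H.two_self 1
        linear_combination this
      · have e : sg (g x' x) = g x x' := (H.sym x' x).symm
        rw [H.add_r, H.smul_r, hx, map_inv₀, e, inv_mul_cancel₀ hb, zero_add]; exact one_ne_zero
      · rw [H.add_r, H.smul_r, hx', mul_zero, add_zero]; exact hb'
  have hn : ∀ z : W, g z y ≠ 0 → g ((g z y)⁻¹ • z) y = 1 := fun z hz => by
    rw [H.smul, inv_mul_cancel₀ hz]
  obtain ⟨c, hc1, hc2⟩ := siegel_map H A (X := X) (x := (g x y)⁻¹ • x) (x' := (g x' y)⁻¹ • x') (y := y)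
    (by rw [H.smul, H.smul_r, hx, mul_zero, mul_zero]) (by rw [H.smul, H.smul_r, hx', mul_zero, mul_zero]) hyy
    (hn x hxy) (hn x' hxy') (fun v hv => by rw [H.smul_r, H.zero_comm (h1 v hv), mul_zero])
    (fun v hv => by rw [H.smul_r, H.zero_comm (h1' v hv), mul_zero]) (fun v hv => H.zero_comm (hy v hv))
  refine ⟨c, hc1, ?_⟩
  have e1 : (F ∙ ((g x y)⁻¹ • x)) = F ∙ x := smul_span_eq H A (inv_ne_zero hxy)
  have e2 : (F ∙ ((g x' y)⁻¹ • x')) = F ∙ x' := smul_span_eq H A (inv_ne_zero hxy')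
  rw [← e1, ← e2]
  refine sigma_sup_span H A hc1 (by rw [hc2, sub_self]; exact X.zero_mem) ?_
  intro h
  exact h2 ((Submodule.smul_mem_iff X (inv_ne_zero hxy)).1 h)

omit A in
/-- a vector generating `Y` over `X` -/
theorem exists_gen {X Y : Submodule F W} (hY : TI g Y) (h : X ≤ Y) (hr : finrank F Y = finrank F X + 1) :
    ∃ x, g x x = 0 ∧ x ∈ H.perp X ∧ x ∉ X ∧ Y = X ⊔ (F ∙ x) := by
  obtain ⟨x, hx, hxX⟩ : ∃ x ∈ Y, x ∉ X := by
    by_contra hc
    push Not at hc
    have h3 : Y ≤ X := hc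
    have := Submodule.finrank_mono h3
    omega
  refine ⟨x, hY x hx x hx, fun v hv => hY x hx v (h hv), hxX, ?_⟩
  symm
  exact eq_of_rk (sup_le h (by rwa [Submodule.span_singleton_le_iff_mem]))
    (by rw [Submodule.finrank_sup_span_singleton hxX, hr])

/-- **`C` acts on the polar space as required in `Flags`** -/
theorem act : Act sigma (TI g (F := F)) where
  le c X Y h := by
    intro w hw
    obtain ⟨v, hv, rfl⟩ := (A.sig c X w).1 hw
    exact A.mem (h hv)
  rk c X := A.card_eq c X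
  sing c X hX := by
    intro x hx y hy
    obtain ⟨v, hv, rfl⟩ := (A.sig c X x).1 hx
    obtain ⟨u, hu, rfl⟩ := (A.sig c X y).1 hy
    obtain ⟨τ, μ, -, -, h⟩ := A.semi c
    rw [h, hX v hv u hu, map_zero, mul_zero]
  tr X Y Z hY hZ h1 h2 h3 h4 := by
    obtain ⟨x, hx, hx1, hx2, rfl⟩ := exists_gen H hY h1 h3
    obtain ⟨x', hx', hx1', hx2', rfl⟩ := exists_gen H hZ h2 h4
    obtain ⟨c, hc1, hc2⟩ := tr_span H A hx hx' hx1 hx1' hx2 hx2'
    exact ⟨c, fun T hT => A.eq_of_fix fun v hv => hc1 v (hT hv), hc2⟩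

end HAct

/-- the action on the subspaces -/
theorem exists_sigma [Finite F] {C : Type*} [Group C] {rho : C → W ≃+ W}
    (mul : ∀ a b v, rho (a * b) v = rho a (rho b v))
    (semi : ∀ c, ∃ τ : F →+* F, ∀ (s : F) v, rho c (s • v) = τ s • rho c v) :
    ∃ sigma : C →* Equiv.Perm (Submodule F W), ∀ c X w, w ∈ sigma c X ↔ ∃ v ∈ X, rho c v = w := by
  have one : ∀ v, rho 1 v = v := fun v => by
    have h := mul 1 1 v
    rw [mul_one] at h
    exact (rho 1).injective h.symm
  let im : C → Submodule F W → Submodule F W := fun c X =>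
    { carrier := {w | ∃ v ∈ X, rho c v = w}
      zero_mem' := ⟨0, X.zero_mem, map_zero _⟩
      add_mem' := by
        rintro _ _ ⟨v, hv, rfl⟩ ⟨u, hu, rfl⟩
        exact ⟨v + u, X.add_mem hv hu, map_add _ _ _⟩
      smul_mem' := by
        rintro s _ ⟨v, hv, rfl⟩
        obtain ⟨τ, hτ⟩ := semi c
        obtain ⟨t, rfl⟩ := (Finite.injective_iff_surjective.1 τ.injective) s
        exact ⟨t • v, X.smul_mem t hv, hτ t v⟩ }
  have hmul : ∀ a b X, im (a * b) X = im a (im b X) := by
    intro a b X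
    ext w
    constructor
    · rintro ⟨v, hv, rfl⟩
      exact ⟨rho b v, ⟨v, hv, rfl⟩, (mul a b v).symm⟩
    · rintro ⟨_, ⟨v, hv, rfl⟩, rfl⟩
      exact ⟨v, hv, mul a b v⟩
  have hone : ∀ X, im 1 X = X := by
    intro X
    ext w
    constructor
    · rintro ⟨v, hv, rfl⟩; rwa [one]
    · intro hw; exact ⟨w, hw, one w⟩
  refine ⟨{ toFun := fun c => ⟨im c, im c⁻¹, fun X => ?_, fun X => ?_⟩, map_one' := ?_, map_mul' := ?_ }, ?_⟩
  · rw [← hmul, inv_mul_cancel, hone]
  · rw [← hmul, mul_inv_cancel, hone]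
  · ext1 X; exact hone X
  · intro a b; ext1 X; exact hmul a b X
  · intro c X w; exact Iff.rfl

/-- a flag through a given isotropic point -/
theorem Herm.exists_fl_of {q : ℕ} {sg : F →+* F} {g : W → W → F} (H : Herm q sg g) [FiniteDimensional F W]
    {m : ℕ} (hm : Witt g m) {e₀ : W} (h0 : e₀ ≠ 0) (h : g e₀ e₀ = 0) :
    ∃ f, Fl (TI g (F := F)) m f ∧ f 1 = F ∙ e₀ ∧ 1 ≤ m := by
  have h1 : TI g (F ∙ e₀) := H.TI_span h
  have hm1 : 1 ≤ m := by
    have := hm.2 _ h1
    rwa [finrank_span_singleton h0] at this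
  have h2 : Fl (TI g (F := F)) 1 (fun d => if d = 0 then ⊥ else F ∙ e₀) := by
    refine ⟨fun d hd => ?_, fun d hd => ?_, ?_⟩
    · obtain rfl : d = 0 := by omega
      simp
    · rcases Nat.le_one_iff_eq_zero_or_eq_one.1 hd with rfl | rfl
      · simp
      · simp [finrank_span_singleton h0]
    · simpa using h1
  obtain ⟨f, hf, hf'⟩ := exists_ext (H.polSp hm) h2 hm1
  exact ⟨f, hf, by rw [hf' 1 le_rfl]; simp, hm1⟩

end Cfsg.Agent.ParSys.Polar.Hermit
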