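import Mathlib
import Cfsg.Agent.ParSys.Polar.HermAct

/-!
# Counting in hermitian spaces: the panels

`card_iso` : the number of isotropic vectors `x` of `D` with `g x e = 1` is `|D| / q^3`.
`card_pan_lt`, `card_pan_last` : the panels have `|F| + 1`, respectively `q |F|^(n - 2m) + 1` members.
-/

set_option autoImplicit false
set_option linter.unusedSectionVars false

namespace Cfsg.Agent.ParSys.Polar.Hermit

open Module Cfsg.Agent.ParSys.Polar.Flags

variable {F W : Type*} [Field F] [AddCommGroup W] [Module F W]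

/-- the isotropic vectors `x` of `D` with `g x e = 1` -/
def Iso (g : W → W → F) (D : Submodule F W) (e : W) : Set W := {x | x ∈ D ∧ g x x = 0 ∧ g x e = 1}

namespace Herm

variable {q : ℕ} {sg : F →+* F} {g : W → W → F} (H : Herm q sg g)

include H

theorem tr_fib {b : F} (hb : sg b = b) : Nat.card {t : F | t + sg t = b} = q := by
  obtain ⟨t₀, ht₀⟩ := H.tr_surj b hb
  rw [← H.tr_ker]
  refine Nat.card_congr ⟨fun t => ⟨(t : F) + t₀, ?_⟩, fun t => ⟨(t : F) + t₀, ?_⟩, fun t => ?_, fun t => ?_⟩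
  · have h1 : (t : F) + sg t = b := t.2
    show ((t : F) + t₀) + sg ((t : F) + t₀) = 0
    rw [map_add]
    have := H.two_self b
    linear_combination h1 + ht₀ + this
  · have h1 : (t : F) + sg t = 0 := t.2
    show ((t : F) + t₀) + sg ((t : F) + t₀) = b
    rw [map_add]
    linear_combination h1 + ht₀
  · exact Subtype.ext (by show (t : F) + t₀ + t₀ = t; rw [add_assoc, H.two_self, add_zero])
  · exact Subtype.ext (by show (t : F) + t₀ + t₀ = t; rw [add_assoc, H.two_self, add_zero])

variable [FiniteDimensional F W]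

theorem card_iso {D : Submodule F W} {e : W} (he : e ∈ D) (hee : g e e = 0) (hx : ∃ x ∈ D, g x e ≠ 0) :
    Nat.card (Iso g D e) * q ^ 3 = Nat.card D := by
  have hF := H.finite_F
  have hW : Finite W := Module.finite_of_finite F
  obtain ⟨x₁, hx₁, hx₂⟩ : ∃ x ∈ D, g x e = 1 := by
    obtain ⟨x, hx, hx'⟩ := hx
    exact ⟨(g x e)⁻¹ • x, D.smul_mem _ hx, by rw [H.smul, inv_mul_cancel₀ hx']⟩
  let A : Set W := {x | x ∈ D ∧ g x e = 1}
  have h1 : Nat.card A * Nat.card F = Nat.card D := by
    rw [← Nat.card_prod]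
    refine Nat.card_congr ⟨fun p => ⟨(p.1 : W) + p.2 • x₁, D.add_mem p.1.2.1 (D.smul_mem _ hx₁)⟩,
      fun x => (⟨(x : W) + (g x e + 1) • x₁, D.add_mem x.2 (D.smul_mem _ hx₁), ?_⟩, g x e + 1), fun p => ?_,
      fun x => ?_⟩
    · rw [H.add, H.smul, hx₂, mul_one, ← add_assoc, H.two_self, zero_add]
    · have h2 : g ((p.1 : W) + p.2 • x₁) e + 1 = p.2 := by
        rw [H.add, H.smul, hx₂, p.1.2.2, mul_one]
        have := H.two_self 1
        linear_combination this
      refine Prod.ext (Subtype.ext ?_) h2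
      show (p.1 : W) + p.2 • x₁ + (g ((p.1 : W) + p.2 • x₁) e + 1) • x₁ = p.1
      rw [h2, add_assoc, H.two_w, add_zero]
    · refine Subtype.ext ?_
      show (x : W) + (g x e + 1) • x₁ + (g x e + 1) • x₁ = x
      rw [add_assoc, H.two_w, add_zero]
  have key : ∀ a ∈ A, ∀ t : F, g (a + t • e) (a + t • e) = 0 ↔ t + sg t = g a a := by
    intro a ha t
    have h3 : g a e = 1 := ha.2
    have h4 : g e a = 1 := by rw [H.sym, h3, map_one]
    rw [H.add, H.add_r, H.add_r, H.smul, H.smul_r, H.smul, H.smul_r, hee, h3, h4]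
    constructor
    · intro h
      have := H.two_self (g a a)
      linear_combination h - this
    · intro h
      have := H.two_self (g a a)
      linear_combination h + this
  have h2 : Nat.card (Iso g D e) * Nat.card F = Nat.card A * q := by
    rw [← Nat.card_prod]
    have e1 : (Iso g D e × F) ≃ (Σ a : A, {t : F | t + sg t = g (a : W) a}) :=
      { toFun := fun p => ⟨⟨(p.1 : W) + p.2 • e, D.add_mem p.1.2.1 (D.smul_mem _ he), by
            rw [H.add, H.smul, hee, mul_zero, add_zero]; exact p.1.2.2.2⟩, ⟨p.2, by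
            have hA : (p.1 : W) + p.2 • e ∈ A := ⟨D.add_mem p.1.2.1 (D.smul_mem _ he), by
              rw [H.add, H.smul, hee, mul_zero, add_zero]; exact p.1.2.2.2⟩
            refine (key _ hA p.2).1 ?_
            rw [add_assoc, H.two_w, add_zero]; exact p.1.2.2.1⟩⟩
        invFun := fun p => (⟨(p.1 : W) + (p.2 : F) • e, D.add_mem p.1.2.1 (D.smul_mem _ he),
            (key _ p.1.2 p.2).2 p.2.2, by rw [H.add, H.smul, hee, mul_zero, add_zero]; exact p.1.2.2⟩, p.2)
        left_inv := fun p => Prod.ext (Subtype.ext (by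
          show (p.1 : W) + p.2 • e + p.2 • e = p.1
          rw [add_assoc, H.two_w, add_zero])) rfl
        right_inv := fun p => by
          obtain ⟨⟨a, ha⟩, ⟨t, ht⟩⟩ := p
          have h3 : a + t • e + t • e = a := by rw [add_assoc, H.two_w, add_zero]
          have h4 : ∀ (b c : A) (hbc : (b : W) = c) (hb : t + sg t = g (b : W) b)
              (hc : t + sg t = g (c : W) c), (⟨b, ⟨t, hb⟩⟩ : Σ a : A, {t : F | t + sg t = g (a : W) a})
                = ⟨c, ⟨t, hc⟩⟩ := by
            intro b c hbc hb hc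
            obtain rfl := Subtype.ext hbc
            rfl
          exact h4 ⟨a + t • e + t • e, _⟩ ⟨a, ha⟩ h3 _ _ }
    rw [Nat.card_congr e1]
    have : Fintype A := Fintype.ofFinite A
    rw [Nat.card_sigma]
    have h5 : ∀ a : A, Nat.card {t : F | t + sg t = g (a : W) a} = q := fun a => H.tr_fib (H.sg_diag _)
    rw [Finset.sum_congr rfl (fun a _ => h5 a), Finset.sum_const, Finset.card_univ, smul_eq_mul,
      Nat.card_eq_fintype_card]
  have hq := H.pos
  have hc := H.card
  rw [hc] at h1 h2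
  have h3 : Nat.card (Iso g D e) * q = Nat.card A :=
    Nat.eq_of_mul_eq_mul_right hq (by rw [← h2]; ring)
  rw [← h1, ← h3]; ring

end Herm

/-- counting the members of a spread over `A` -/
theorem card_spread {A : Submodule F W} {X : Set (Submodule F W)} {T : Set W} [Finite W] {b : ℕ}
    (h1 : ∀ x ∈ X, A ≤ x) (h2 : ∀ x ∈ X, Nat.card x = b)
    (h3 : ∀ v, v ∈ T ↔ v ∉ A ∧ ∃ x ∈ X, v ∈ x)
    (h4 : ∀ x ∈ X, ∀ x' ∈ X, ∀ v, v ∉ A → v ∈ x → v ∈ x' → x = x') :
    Nat.card T + Nat.card X * Nat.card A = Nat.card X * b := by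
  classical
  have hs : Finite (Submodule F W) := Finite.of_injective (fun X : Submodule F W => (X : Set W)) SetLike.coe_injective
  have e : (Σ x : X, {v : W // v ∈ (x : Submodule F W) ∧ v ∉ A}) ≃ T := by
    refine Equiv.ofBijective (fun p => ⟨p.2.1, (h3 _).2 ⟨p.2.2.2, _, p.1.2, p.2.2.1⟩⟩) ⟨?_, ?_⟩
    · rintro ⟨⟨x, hx⟩, ⟨v, hv, hv'⟩⟩ ⟨⟨x', hx'⟩, ⟨v', hw, hw'⟩⟩ h
      have h5 : v = v' := congrArg Subtype.val h
      subst h5
      obtain rfl := h4 x hx x' hx' v hv' hv hw
      rfl
    · rintro ⟨v, hv⟩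
      obtain ⟨h5, x, hx, hvx⟩ := (h3 v).1 hv
      exact ⟨⟨⟨x, hx⟩, ⟨v, hvx, h5⟩⟩, rfl⟩
  have : Fintype X := Fintype.ofFinite X
  rw [← Nat.card_congr e, Nat.card_sigma]
  have h5 : ∀ x : X, Nat.card {v : W // v ∈ (x : Submodule F W) ∧ v ∉ A} + Nat.card A = b := by
    intro x
    rw [← h2 x x.2]
    have e2 : {v : W // v ∈ (x : Submodule F W) ∧ v ∉ A} ⊕ A ≃ (x : Submodule F W) := by
      refine Equiv.ofBijective (Sum.elim (fun v => ⟨v.1, v.2.1⟩) fun a => ⟨a.1, h1 x x.2 a.2⟩) ⟨?_, ?_⟩
      · rintro (⟨v, hv, hv'⟩ | ⟨a, ha⟩) (⟨w, hw, hw'⟩ | ⟨a', ha'⟩) h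
        · have : v = w := congrArg Subtype.val h
          subst this; rfl
        · have : v = a' := congrArg Subtype.val h
          subst this; exact absurd ha' hv'
        · have : a = w := congrArg Subtype.val h
          subst this; exact absurd ha hw'
        · have : a = a' := congrArg Subtype.val h
          subst this; rfl
      · rintro ⟨v, hv⟩
        by_cases hA : v ∈ A
        · exact ⟨Sum.inr ⟨v, hA⟩, rfl⟩
        · exact ⟨Sum.inl ⟨v, hv, hA⟩, rfl⟩
    rw [← Nat.card_congr e2, Nat.card_sum]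
  rw [Nat.card_eq_fintype_card (α := X), ← Finset.card_univ, ← smul_eq_mul, ← smul_eq_mul, ← Finset.sum_const,
    ← Finset.sum_const, ← Finset.sum_add_distrib]
  exact Finset.sum_congr rfl fun x _ => h5 x

/-- a complement count -/
theorem card_compl {A X : Submodule F W} [Finite W] (h : A ≤ X) :
    Nat.card {v : W | v ∈ X ∧ v ∉ A} + Nat.card A = Nat.card X := by
  have e2 : {v : W | v ∈ X ∧ v ∉ A} ⊕ A ≃ X := by
    refine Equiv.ofBijective (Sum.elim (fun v => ⟨v.1, v.2.1⟩) fun a => ⟨a.1, h a.2⟩) ⟨?_, ?_⟩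
    · rintro (⟨v, hv, hv'⟩ | ⟨a, ha⟩) (⟨w, hw, hw'⟩ | ⟨a', ha'⟩) h
      · have : v = w := congrArg Subtype.val h
        subst this; rfl
      · have : v = a' := congrArg Subtype.val h
        subst this; exact absurd ha' hv'
      · have : a = w := congrArg Subtype.val h
        subst this; exact absurd ha hw'
      · have : a = a' := congrArg Subtype.val h
        subst this; rfl
    · rintro ⟨v, hv⟩
      by_cases hA : v ∈ A
      · exact ⟨Sum.inr ⟨v, hA⟩, rfl⟩
      · exact ⟨Sum.inl ⟨v, hv, hA⟩, rfl⟩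
  rw [← Nat.card_congr e2, Nat.card_sum]

variable [FiniteDimensional F W] {q : ℕ} {sg : F →+* F} {g : W → W → F} (H : Herm q sg g) {m : ℕ}
  {f : ℕ → Submodule F W}

include H

/-- the span of one more vector -/
theorem Herm.eq_sup {A X : Submodule F W} {v : W} (h : A ≤ X) (hv : v ∈ X) (hA : v ∉ A)
    (hr : finrank F X = finrank F A + 1) : X = A ⊔ (F ∙ v) := by
  symm
  exact eq_of_rk (sup_le h (by rwa [Submodule.span_singleton_le_iff_mem]))
    (by rw [Submodule.finrank_sup_span_singleton hA, hr])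

/-- **the panels `1 ≤ j < m`** -/
theorem Herm.card_pan_lt (hm : Witt g m) (hf : Fl (TI g (F := F)) m f) {j : ℕ} (hj : 1 ≤ j) (hjm : j < m) :
    Nat.card (Flags.Pan (TI g) m f j) = Nat.card F + 1 := by
  have hF := H.finite_F
  have hW : Finite W := Module.finite_of_finite F
  obtain ⟨i, rfl⟩ := Nat.exists_eq_add_of_le' hj
  have hS := H.polSp hm
  have hQ := Finite.one_lt_card (α := F)
  have cf : ∀ d ≤ m, Nat.card (f d) = Nat.card F ^ d := fun d hd => by
    rw [Module.natCard_eq_pow_finrank (K := F), hf.rk d hd]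
  have h1 := card_compl (hf.le (a := i) (b := i + 2) (by omega) (by omega))
  have h2 := card_spread (A := f i) (X := Flags.Pan (TI g) m f (i + 1)) (T := {v : W | v ∈ f (i + 2) ∧ v ∉ f i})
    (b := Nat.card F ^ (i + 1)) (fun x hx => hx.2.2.1 i rfl)
    (fun x hx => by rw [Module.natCard_eq_pow_finrank (K := F), hx.2.1])
    (fun v => ?_) (fun x hx x' hx' v hv h1 h2 => ?_)
  · rw [cf _ (by omega), cf _ (by omega)] at h1
    rw [cf _ (by omega)] at h2
    have hR : 0 < Nat.card F ^ i := pow_pos (by omega) _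
    rw [pow_succ, pow_succ] at h1
    rw [pow_succ] at h2
    generalize Nat.card {v : W | v ∈ f (i + 2) ∧ v ∉ f i} = T at *
    generalize Nat.card (Flags.Pan (TI g) m f (i + 1)) = P at *
    generalize Nat.card F ^ i = R at *
    generalize Nat.card F = Q at *
    -- T + R = R Q Q,  T + P R = P (R Q)
    zify at h1 h2 hR hQ ⊢
    have h3 : (R : ℤ) * (Q - 1) * (P - (Q + 1)) = 0 := by linear_combination -h2 + h1
    rcases mul_eq_zero.1 h3 with h | h
    · rcases mul_eq_zero.1 h with h | h <;> omega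
    · linarith
  · constructor
    · rintro ⟨hv, hv'⟩
      refine ⟨hv', f i ⊔ (F ∙ v), ⟨?_, ?_, ?_, ?_⟩, Submodule.mem_sup_right (Submodule.mem_span_singleton_self v)⟩
      · exact TI.mono (sup_le (hf.le (by omega) (by omega)) (by rwa [Submodule.span_singleton_le_iff_mem]))
          (hf.si hS (d := i + 2) (by omega))
      · rw [Submodule.finrank_sup_span_singleton hv', hf.rk i (by omega)]
      · intro d hd
        obtain rfl : d = i := by omega
        exact le_sup_left
      · intro _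
        exact sup_le (hf.le (by omega) (by omega)) (by rwa [Submodule.span_singleton_le_iff_mem])
    · rintro ⟨hv, x, hx, hvx⟩
      exact ⟨hx.2.2.2 hjm hvx, hv⟩
  · rw [H.eq_sup (hx.2.2.1 i rfl) h1 hv (by rw [hx.2.1, hf.rk i (by omega)]),
      H.eq_sup (hx'.2.2.1 i rfl) h2 hv (by rw [hx'.2.1, hf.rk i (by omega)])]

/-- an isotropic vector orthogonal to `f m` lies in `f m` -/
theorem Herm.mem_of_iso (hm : Witt g m) (hf : Fl (TI g (F := F)) m f) {v : W} (hv : g v v = 0)
    (h : v ∈ H.perp (f m)) : v ∈ f m := by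
  by_contra hvX
  have h3 := hm.2 _ (H.TI_sup_span hf.sing hv h)
  rw [Submodule.finrank_sup_span_singleton hvX, hf.rk m le_rfl] at h3
  omega

/-- the number of isotropic vectors `x` of `(f i)^⊥` with `g x e = 1` -/
theorem Herm.card_last (hm : Witt g m) (hf : Fl (TI g (F := F)) m f) {i : ℕ} (hi : i + 1 = m) {e : W}
    (he : e ∈ f m) (he' : e ∉ f i) :
    Nat.card (Iso g (H.perp (f i)) e) = Nat.card F ^ i * (q * Nat.card F ^ (finrank F W - 2 * m)) := by
  have h1 := H.card_iso (D := H.perp (f i)) (e := e) (fun x hx => hf.sing e he x (hf.le (by omega) le_rfl hx))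
    (hf.sing e he e he) (by
      obtain ⟨z, hz, h⟩ := H.exists_ne he'
      exact ⟨z, hz, h⟩)
  have h2 := H.finrank_perp (f i)
  have h3 := H.finrank_eq hm
  rw [hf.rk i (by omega)] at h2
  rw [Module.natCard_eq_pow_finrank (K := F) (V := ↥(H.perp (f i)))] at h1
  have h4 : finrank F ↥(H.perp (f i)) = i + (finrank F W - 2 * m) + 2 := by omega
  rw [h4, pow_add, pow_add, H.card] at h1
  rw [H.card]
  have hq : 0 < q ^ 3 := pow_pos H.pos _
  exact Nat.eq_of_mul_eq_mul_right hq (by rw [h1]; ring)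

/-- **the last panel** -/
theorem Herm.card_pan_last (hm : Witt g m) (hf : Fl (TI g (F := F)) m f) (hm1 : 1 ≤ m) :
    Nat.card (Flags.Pan (TI g) m f m) = q * Nat.card F ^ (finrank F W - 2 * m) + 1 := by
  have hF := H.finite_F
  have hW : Finite W := Module.finite_of_finite F
  obtain ⟨i, rfl⟩ := Nat.exists_eq_add_of_le' hm1
  have hS := H.polSp hm
  have hQ := Finite.one_lt_card (α := F)
  have cf : ∀ d ≤ i + 1, Nat.card (f d) = Nat.card F ^ d := fun d hd => by
    rw [Module.natCard_eq_pow_finrank (K := F), hf.rk d hd]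
  obtain ⟨e, hee, he1, he2, he3⟩ := HAct.exists_gen H hf.sing (hf.mono i (by omega))
    (by rw [hf.rk _ le_rfl, hf.rk i (by omega)])
  have hem : e ∈ f (i + 1) := by rw [he3]; exact Submodule.mem_sup_right (Submodule.mem_span_singleton_self e)
  have h0 := H.card_last hm hf rfl hem he2
  -- the isotropic vectors of `(f i)^⊥` outside `f i`
  let T : Set W := {v | v ∈ H.perp (f i) ∧ g v v = 0 ∧ v ∉ f i}
  have h1 : Nat.card T + Nat.card F ^ i + Nat.card (Iso g (H.perp (f i)) e)
      = Nat.card F ^ (i + 1) + Nat.card F * Nat.card (Iso g (H.perp (f i)) e) := by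
    have e1 : T ⊕ (f i) ⊕ (Iso g (H.perp (f i)) e) ≃ (f (i + 1)) ⊕ (F × Iso g (H.perp (f i)) e) := by
      classical
      have p1 : ∀ v : W, v ∈ H.perp (f i) → g v v = 0 → g v e = 0 → v ∈ f (i + 1) := fun v h1 h2 h3 => by
        refine H.mem_of_iso hm hf h2 ?_
        rw [he3, H.mem_perp_sup, H.mem_perp_span]
        exact ⟨h1, h3⟩
      have p2 : ∀ v ∈ f (i + 1), v ∈ H.perp (f i) ∧ g v v = 0 ∧ g v e = 0 := fun v hv =>
        ⟨fun x hx => hf.sing v hv x (hf.mono i (by omega) hx), hf.sing v hv v hv, hf.sing v hv e hem⟩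
      have p3 : ∀ v : W, v ∈ H.perp (f i) → g v v = 0 → g v e ≠ 0 →
          (g v e)⁻¹ • v ∈ Iso g (H.perp (f i)) e := fun v h1 h2 h3 =>
        ⟨Submodule.smul_mem _ _ h1, by rw [H.smul, H.smul_r, h2, mul_zero, mul_zero],
          by rw [H.smul, inv_mul_cancel₀ h3]⟩
      have p4 : ∀ (s : F) (x : W), s ≠ 0 → x ∈ Iso g (H.perp (f i)) e → s • x ∈ T := fun s x hs hx => by
        refine ⟨Submodule.smul_mem _ _ hx.1, by rw [H.smul, H.smul_r, hx.2.1, mul_zero, mul_zero], fun h => ?_⟩
        have h2 := (p2 _ (hf.mono i (by omega) h)).2.2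
        rw [H.smul, hx.2.2, mul_one] at h2
        exact hs h2
      refine
        { toFun := fun z => match z with
            | Sum.inl v => if h : g (v : W) e = 0 then Sum.inl ⟨v, p1 v v.2.1 v.2.2.1 h⟩
                else Sum.inr (g (v : W) e, ⟨_, p3 v v.2.1 v.2.2.1 h⟩)
            | Sum.inr (Sum.inl a) => Sum.inl ⟨a, hf.mono i (by omega) a.2⟩
            | Sum.inr (Sum.inr x) => Sum.inr (0, x)
          invFun := fun z => match z with
            | Sum.inl v => if h : (v : W) ∈ f i then Sum.inr (Sum.inl ⟨v, h⟩)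
                else Sum.inl ⟨v, (p2 v v.2).1, (p2 v v.2).2.1, h⟩
            | Sum.inr (s, x) => if h : s = 0 then Sum.inr (Sum.inr x) else Sum.inl ⟨s • (x : W), p4 s x h x.2⟩
          left_inv := ?_
          right_inv := ?_ }
      · rintro (⟨v, h1, h2, h3⟩ | ⟨a, ha⟩ | x)
        · by_cases h : g v e = 0
          · simp [h, h3]
          · simp only [h, dite_false]
            refine congrArg Sum.inl (Subtype.ext ?_)
            show g v e • ((g v e)⁻¹ • v) = v
            rw [smul_smul, mul_inv_cancel₀ h, one_smul]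
        · simp [ha]
        · simp
      · rintro (⟨v, hv⟩ | ⟨s, ⟨x, hx⟩⟩)
        · by_cases h : v ∈ f i
          · simp [h]
          · simp [h, (p2 v hv).2.2]
        · by_cases h : s = 0
          · subst h; simp
          · have h5 : g (s • x) e = s := by rw [H.smul, hx.2.2, mul_one]
            have h6 : g (s • x) e ≠ 0 := by rw [h5]; exact h
            simp only [h, dite_false, h6]
            refine congrArg Sum.inr (Prod.ext h5 (Subtype.ext ?_))
            show (g (s • x) e)⁻¹ • (s • x) = x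
            rw [h5, smul_smul, inv_mul_cancel₀ h, one_smul]
    have h2 := Nat.card_congr e1
    rw [Nat.card_sum, Nat.card_sum, Nat.card_sum, Nat.card_prod, cf _ le_rfl, cf _ (by omega)] at h2
    omega
  have h2 := card_spread (A := f i) (X := Flags.Pan (TI g) (i + 1) f (i + 1)) (T := T)
    (b := Nat.card F ^ (i + 1)) (fun x hx => hx.2.2.1 i rfl)
    (fun x hx => by rw [Module.natCard_eq_pow_finrank (K := F), hx.2.1])
    (fun v => ?_) (fun x hx x' hx' v hv h1 h2 => ?_)
  · rw [cf _ (by omega)] at h2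
    have hR : 0 < Nat.card F ^ i := pow_pos (by omega) _
    rw [pow_succ] at h1 h2
    rw [h0] at h1
    generalize Nat.card T = T' at *
    generalize Nat.card (Flags.Pan (TI g) (i + 1) f (i + 1)) = P at *
    generalize q * Nat.card F ^ (finrank F W - 2 * (i + 1)) = N at *
    generalize Nat.card F ^ i = R at *
    generalize Nat.card F = Q at *
    -- T + R + R N = R Q + Q (R N),  T + P R = P (R Q)
    zify at h1 h2 hR hQ ⊢
    have h3 : (R : ℤ) * (Q - 1) * (P - (N + 1)) = 0 := by linear_combination -h2 + h1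
    rcases mul_eq_zero.1 h3 with h | h
    · rcases mul_eq_zero.1 h with h | h <;> omega
    · linarith
  · constructor
    · rintro ⟨hv, hvv, hv'⟩
      refine ⟨hv', f i ⊔ (F ∙ v), ⟨?_, ?_, ?_, ?_⟩, Submodule.mem_sup_right (Submodule.mem_span_singleton_self v)⟩
      · exact H.TI_sup_span (hf.si hS (by omega)) hvv hv
      · rw [Submodule.finrank_sup_span_singleton hv', hf.rk i (by omega)]
      · intro d hd
        obtain rfl : d = i := by omega
        exact le_sup_left
      · intro h; omega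
    · rintro ⟨hv, x, hx, hvx⟩
      exact ⟨fun y hy => hx.1 v hvx y (hx.2.2.1 i rfl hy), hx.1 v hvx v hvx, hv⟩
  · rw [H.eq_sup (hx.2.2.1 i rfl) h1 hv (by rw [hx.2.1, hf.rk i (by omega)]),
      H.eq_sup (hx'.2.2.1 i rfl) h2 hv (by rw [hx'.2.1, hf.rk i (by omega)])]

end Cfsg.Agent.ParSys.Polar.Hermit
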