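import Mathlib
import Cfsg.Agent.ParSys.Polar.Flags

/-!
# The polar space of a nondegenerate symplectic form over a finite field of characteristic 2

`Symp g` : `g` is a nondegenerate alternating form over a finite field of characteristic 2.
`perp`, `finrank_perp`, `perp_perp`, `TI` (totally isotropic), `Witt g m` (`m` is the Witt index);
`polSp : PolSp (TI g) m`; `finrank_eq : n = 2m`.
-/

set_option autoImplicit false
set_option linter.unusedSectionVars false

namespace Cfsg.Agent.ParSys.Polar.Sympl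

open Module Cfsg.Agent.ParSys.Polar.Flags

variable {F W : Type*} [Field F] [Finite F] [AddCommGroup W] [Module F W]

/-- a nondegenerate symplectic form, characteristic 2 -/
structure Symp (g : W → W → F) : Prop where
  two : (2 : F) = 0
  self : ∀ x, g x x = 0
  add : ∀ x y z, g (x + y) z = g x z + g y z
  smul : ∀ (s : F) x y, g (s • x) y = s * g x y
  sym : ∀ x y, g y x = g x y
  nd : ∀ x, (∀ y, g x y = 0) → x = 0

/-- totally isotropic -/
def TI (g : W → W → F) (X : Submodule F W) : Prop := ∀ x ∈ X, ∀ y ∈ X, g x y = 0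

/-- `m` is the Witt index -/
def Witt (g : W → W → F) (m : ℕ) : Prop :=
  (∃ X : Submodule F W, TI g X ∧ finrank F X = m) ∧ ∀ X : Submodule F W, TI g X → finrank F X ≤ m

namespace Symp

variable {g : W → W → F} (H : Symp g)

include H

theorem two_self (a : F) : a + a = 0 := by linear_combination a * H.two

theorem two_w (v : W) : v + v = 0 := by rw [← two_smul F, H.two, zero_smul]

theorem neg_w (v : W) : -v = v := neg_eq_of_add_eq_zero_left (H.two_w v)

theorem sub_w (v u : W) : v - u = v + u := by rw [sub_eq_add_neg, H.neg_w]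

theorem eq_of_add {a b : F} (h : a + b = 0) : a = b := by linear_combination h - b * H.two

theorem add_r (x y z : W) : g x (y + z) = g x y + g x z := by
  rw [H.sym (y + z) x, H.add, H.sym x y, H.sym x z]

theorem smul_r (s : F) (x y : W) : g x (s • y) = s * g x y := by
  rw [H.sym, H.smul, ← H.sym]

theorem zero_l (y : W) : g 0 y = 0 := by
  have := H.smul 0 0 y
  rwa [zero_smul, zero_mul] at this

theorem zero_r (y : W) : g y 0 = 0 := by rw [H.sym, H.zero_l]

theorem zero_comm {x y : W} (h : g x y = 0) : g y x = 0 := by rw [H.sym, h]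

theorem ne_comm {x y : W} (h : g x y ≠ 0) : g y x ≠ 0 := fun h' => h (H.zero_comm h')

/-- the orthogonal space -/
def perp (X : Submodule F W) : Submodule F W where
  carrier := {y | ∀ x ∈ X, g y x = 0}
  zero_mem' := fun x _ => H.zero_l x
  add_mem' := fun {a b} ha hb x hx => by rw [H.add, ha x hx, hb x hx, add_zero]
  smul_mem' := fun s a ha x hx => by rw [H.smul, ha x hx, mul_zero]

theorem mem_perp {X : Submodule F W} {y : W} : y ∈ H.perp X ↔ ∀ x ∈ X, g y x = 0 := Iff.rfl

theorem mem_perp' {X : Submodule F W} {y : W} : y ∈ H.perp X ↔ ∀ x ∈ X, g x y = 0 :=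
  ⟨fun h x hx => H.zero_comm (h x hx), fun h x hx => H.zero_comm (h x hx)⟩

theorem perp_anti {X Y : Submodule F W} (h : X ≤ Y) : H.perp Y ≤ H.perp X := fun _ hy x hx => hy x (h hx)

theorem le_perp_comm {X Y : Submodule F W} (h : X ≤ H.perp Y) : Y ≤ H.perp X :=
  fun _ hy _ hx => H.zero_comm (h hx _ hy)

theorem TI_iff {X : Submodule F W} : TI g X ↔ X ≤ H.perp X := Iff.rfl

theorem mem_perp_span {v y : W} : y ∈ H.perp (F ∙ v) ↔ g y v = 0 := by
  refine ⟨fun h => h v (Submodule.mem_span_singleton_self v), fun h x hx => ?_⟩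
  obtain ⟨s, rfl⟩ := Submodule.mem_span_singleton.1 hx
  rw [H.smul_r, h, mul_zero]

theorem mem_perp_sup {X Y : Submodule F W} {y : W} : y ∈ H.perp (X ⊔ Y) ↔ y ∈ H.perp X ∧ y ∈ H.perp Y := by
  refine ⟨fun h => ⟨H.perp_anti le_sup_left h, H.perp_anti le_sup_right h⟩, fun h x hx => ?_⟩
  obtain ⟨a, ha, b, hb, rfl⟩ := Submodule.mem_sup.1 hx
  rw [H.add_r, h.1 a ha, h.2 b hb, add_zero]

theorem TI_sup {X Y : Submodule F W} (hX : TI g X) (hY : TI g Y) (h : Y ≤ H.perp X) : TI g (X ⊔ Y) := by
  intro x hx y hy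
  obtain ⟨a, ha, b, hb, rfl⟩ := Submodule.mem_sup.1 hx
  obtain ⟨a', ha', b', hb', rfl⟩ := Submodule.mem_sup.1 hy
  rw [H.add, H.add_r, H.add_r, hX a ha a' ha', hY b hb b' hb', h hb a' ha', H.zero_comm (h hb' a ha)]
  simp

theorem TI_span (v : W) : TI g (F ∙ v) := by
  have hv := H.self v
  intro x hx y hy
  obtain ⟨s, rfl⟩ := Submodule.mem_span_singleton.1 hx
  obtain ⟨t, rfl⟩ := Submodule.mem_span_singleton.1 hy
  rw [H.smul, H.smul_r, hv, mul_zero, mul_zero]

theorem TI_sup_span {X : Submodule F W} (hX : TI g X) {v : W} (h : v ∈ H.perp X) :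
    TI g (X ⊔ (F ∙ v)) :=
  H.TI_sup hX (H.TI_span v) (by rwa [Submodule.span_singleton_le_iff_mem])

omit H in
theorem _root_.Cfsg.Agent.ParSys.Polar.Sympl.TI.mono {X Y : Submodule F W} (h : X ≤ Y) (hY : TI g Y) : TI g X :=
  fun x hx y hy => hY x (h hx) y (h hy)

/-- the linear form `g · x` -/
def gl (x : W) : W →ₗ[F] F where
  toFun y := g y x
  map_add' a b := H.add a b x
  map_smul' s a := by rw [H.smul]; rfl

variable [FiniteDimensional F W]

theorem finrank_perp (X : Submodule F W) : finrank F (H.perp X) + finrank F X = finrank F W := by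
  apply le_antisymm
  · let ψ : X → Dual F (W ⧸ H.perp X) := fun x =>
      (H.perp X).liftQ (H.gl (x : W)) (fun y hy => hy (x : W) x.2)
    have hψ : Function.Injective ψ := by
      intro x x' h
      have h1 : ∀ y, g y (x : W) = g y (x' : W) := fun y => by
        have := LinearMap.congr_fun h (Submodule.Quotient.mk y)
        simpa [ψ, Submodule.liftQ_apply, gl] using this
      have h2 : (x : W) - x' = 0 := H.nd _ fun y => by
        apply H.zero_comm
        rw [H.sub_w, H.add_r, h1 y, H.two_self]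
      exact Subtype.ext (sub_eq_zero.1 h2)
    have : Finite (Dual F (W ⧸ H.perp X)) := Module.finite_of_finite F
    have h1 := Nat.card_le_card_of_injective ψ hψ
    rw [Module.natCard_eq_pow_finrank (K := F) (V := X),
      Module.natCard_eq_pow_finrank (K := F) (V := Dual F (W ⧸ H.perp X)), Subspace.dual_finrank_eq] at h1
    have h2 := (Nat.pow_le_pow_iff_right (Finite.one_lt_card (α := F))).1 h1
    have h3 := Submodule.finrank_quotient_add_finrank (H.perp X)
    omega
  · let b := Module.finBasis F X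
    let φ : W →ₗ[F] (Fin (finrank F X) → F) := LinearMap.pi fun i => H.gl (b i : W)
    have hk : LinearMap.ker φ = H.perp X := by
      ext y
      rw [LinearMap.mem_ker]
      constructor
      · intro h x hx
        have h1 : ∀ i, g y (b i : W) = 0 := fun i => congrFun h i
        have h2 : (⟨x, hx⟩ : X) ∈ Submodule.span F (Set.range b) := by rw [b.span_eq]; trivial
        have h3 : ∀ z : X, z ∈ Submodule.span F (Set.range b) → g y (z : W) = 0 := by
          intro z hz
          induction hz using Submodule.span_induction with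
          | mem z hz => obtain ⟨i, rfl⟩ := hz; exact h1 i
          | zero => exact H.zero_r y
          | add z z' _ _ h1 h2 => rw [Submodule.coe_add, H.add_r, h1, h2, add_zero]
          | smul s z _ h1 => rw [Submodule.coe_smul, H.smul_r, h1, mul_zero]
        exact h3 _ h2
      · intro h
        funext i
        exact h _ (b i).2
    have h1 := LinearMap.finrank_range_add_finrank_ker φ
    rw [hk] at h1
    have h2 := Submodule.finrank_le (LinearMap.range φ)
    rw [Module.finrank_fin_fun] at h2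
    omega

theorem perp_perp (X : Submodule F W) : H.perp (H.perp X) = X := by
  have h1 := H.finrank_perp X
  have h2 := H.finrank_perp (H.perp X)
  exact (eq_of_rk (H.le_perp_comm le_rfl) (by omega)).symm

theorem exists_ne {X : Submodule F W} {x : W} (hx : x ∉ X) : ∃ z ∈ H.perp X, g z x ≠ 0 := by
  by_contra hcon
  push Not at hcon
  exact hx (by rw [← H.perp_perp X]; exact fun z hz => H.zero_comm (hcon z hz))

/-- the dimension inequality -/
theorem dl {X Y : Submodule F W} (h : Y ≤ H.perp (X ⊓ Y)) :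
    finrank F Y + finrank F ↥(X ⊓ Y) ≤ finrank F ↥(H.perp X ⊓ Y) + finrank F X := by
  have h1 : H.perp X ⊔ Y ≤ H.perp (X ⊓ Y) := sup_le (H.perp_anti inf_le_left) h
  have h2 := Submodule.finrank_mono h1
  have h3 := Submodule.finrank_sup_add_finrank_inf_eq (H.perp X) Y
  have h4 := H.finrank_perp X
  have h5 := H.finrank_perp (X ⊓ Y)
  omega

theorem dl' {X Y : Submodule F W} (h : TI g Y) :
    finrank F Y + finrank F ↥(X ⊓ Y) ≤ finrank F ↥(H.perp X ⊓ Y) + finrank F X :=
  H.dl (fun _ hy x hx => h _ hy x hx.2)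

theorem TI_bot : TI g (⊥ : Submodule F W) := fun x hx y _ => by
  rw [(Submodule.mem_bot F).1 hx]; exact H.zero_l y

theorem exists_witt : ∃ m, Witt g m := by
  classical
  have hb : ∀ X : Submodule F W, TI g X → finrank F X ≤ finrank F W := fun X _ => Submodule.finrank_le X
  let p : ℕ → Prop := fun k => ∃ X : Submodule F W, TI g X ∧ finrank F X = k
  exact ⟨Nat.findGreatest p (finrank F W),
    Nat.findGreatest_spec (P := p) (hb ⊥ H.TI_bot) ⟨⊥, H.TI_bot, rfl⟩,
    fun X hX => Nat.le_findGreatest (hb X hX) ⟨X, hX, rfl⟩⟩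

/-! ### The polar space -/

variable {m : ℕ}

/-- in a maximal totally isotropic subspace `M` there are vectors orthogonal to `Z` outside `X` -/
theorem exists_mem {X Z M : Submodule F W} (hM : TI g M) (hXZ : X ≤ Z ⊓ M) (h : finrank F Z < finrank F M ∨
    (finrank F Z ≤ finrank F M ∧ finrank F X < finrank F ↥(Z ⊓ M)) ∨
    finrank F Z + finrank F X < finrank F M + finrank F ↥(Z ⊓ M)) : ∃ t ∈ H.perp Z ⊓ M, t ∉ X := by
  by_contra hcon
  push Not at hcon
  have h1 : H.perp Z ⊓ M ≤ X := hcon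
  have h2 := Submodule.finrank_mono h1
  have h3 := H.dl' (X := Z) hM
  have h4 := Submodule.finrank_mono hXZ
  omega

theorem ext_one (hm : Witt g m) {X : Submodule F W} (hX : TI g X) (h : finrank F X < m) :
    ∃ Y, TI g Y ∧ X ≤ Y ∧ finrank F Y = finrank F X + 1 := by
  obtain ⟨⟨M, hM, rfl⟩, -⟩ := hm
  have h3 := H.dl' (X := X) hM
  obtain ⟨t, ⟨ht1, ht2⟩, ht3⟩ : ∃ t ∈ H.perp X ⊓ M, t ∉ X := by
    by_contra hcon
    push Not at hcon
    have h1 : H.perp X ⊓ M ≤ X ⊓ M := le_inf hcon inf_le_right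
    have h2 := Submodule.finrank_mono h1
    omega
  exact ⟨X ⊔ (F ∙ t), H.TI_sup_span hX ht1, le_sup_left,
    Submodule.finrank_sup_span_singleton ht3⟩

theorem exists_max (hm : Witt g m) {X : Submodule F W} (hX : TI g X) :
    ∃ Y, TI g Y ∧ X ≤ Y ∧ finrank F Y = m := by
  have key : ∀ k, ∀ X : Submodule F W, TI g X → finrank F X + k = m → ∃ Y, TI g Y ∧ X ≤ Y ∧ finrank F Y = m := by
    intro k
    induction k with
    | zero => intro X hX h; exact ⟨X, hX, le_rfl, h⟩
    | succ k ih =>
      intro X hX h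
      obtain ⟨Y, hY, h1, h2⟩ := H.ext_one hm hX (by omega)
      obtain ⟨Z, hZ, h3, h4⟩ := ih Y hY (by omega)
      exact ⟨Z, hZ, h1.trans h3, h4⟩
  exact key (m - finrank F X) X hX (by have := hm.2 X hX; omega)

/-- the subspace `X^⊥ ∩ Y` in the situation of `ex` -/
theorem finrank_L (hm : Witt g m) {X Y : Submodule F W} (hX : TI g X) (hY : TI g Y)
    (h1 : finrank F X + 1 = m) (h2 : finrank F Y = m) (h3 : ¬ X ≤ Y) (h4 : finrank F ↥(X ⊓ Y) + 2 = m) :
    finrank F ↥(H.perp X ⊓ Y) + 1 = m ∧ finrank F ↥(X ⊔ (H.perp X ⊓ Y)) = m := by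
  have h5 := H.dl' (X := X) hY
  have h6 : finrank F ↥(H.perp X ⊓ Y) < m := by
    rcases (Submodule.finrank_mono (inf_le_right : H.perp X ⊓ Y ≤ Y)).lt_or_eq with h | h
    · rwa [h2] at h
    · exfalso
      have h7 : Y ≤ H.perp X := by rw [← eq_of_rk inf_le_right h]; exact inf_le_left
      have h8 := hm.2 _ (H.TI_sup hX hY h7)
      have h9 := eq_of_rk (le_sup_right : Y ≤ X ⊔ Y) (by
        have := Submodule.finrank_mono (le_sup_right : Y ≤ X ⊔ Y)
        omega)
      exact h3 (by rw [h9]; exact le_sup_left)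
  refine ⟨by omega, ?_⟩
  have h7 := Submodule.finrank_sup_add_finrank_inf_eq X (H.perp X ⊓ Y)
  have h8 : X ⊓ (H.perp X ⊓ Y) = X ⊓ Y := by
    rw [← inf_assoc, inf_eq_left.2 (H.TI_iff.1 hX)]
  rw [h8] at h7
  omega

/-- **the polar space of a symplectic form** -/
theorem polSp (hm : Witt g m) : PolSp (TI g (F := F)) m where
  bot := H.TI_bot
  down := fun h hY => TI.mono h hY
  ext := fun X hX h => H.ext_one hm hX h
  conn := by
    intro X Y Z hY hZ h1 h2 h3 h4 h5
    obtain ⟨M, hM, h6, h7⟩ := H.exists_max hm hY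
    have h8 : X ≤ Z ⊓ M := le_inf h2 (h1.trans h6)
    obtain ⟨t, ⟨ht1, ht2⟩, ht3⟩ := H.exists_mem (X := X) (Z := Z) hM h8 (by omega)
    refine ⟨X ⊔ (F ∙ t), le_sup_left, Submodule.finrank_sup_span_singleton ht3, ?_, ?_⟩
    · exact TI.mono (sup_le h6 (sup_le (h1.trans h6) (by rwa [Submodule.span_singleton_le_iff_mem]))) hM
    · rw [← sup_assoc, sup_eq_left.2 h2]
      exact H.TI_sup_span hZ ht1
  ex := by
    intro X Y hX hY h1 h2 h3 h4
    obtain ⟨h5, h6⟩ := H.finrank_L hm hX hY h1 h2 h3 h4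
    refine ⟨X ⊔ (H.perp X ⊓ Y), H.TI_sup hX (TI.mono (inf_le_right : H.perp X ⊓ Y ≤ Y) hY) inf_le_left, le_sup_left, h6, ?_⟩
    have h7 : H.perp X ⊓ Y ≤ (X ⊔ (H.perp X ⊓ Y)) ⊓ Y := le_inf le_sup_right inf_le_right
    have h8 := Submodule.finrank_mono h7
    have h9 : finrank F ↥((X ⊔ (H.perp X ⊓ Y)) ⊓ Y) < m := by
      rcases (Submodule.finrank_mono (inf_le_right : (X ⊔ (H.perp X ⊓ Y)) ⊓ Y ≤ Y)).lt_or_eq with h | h
      · rwa [h2] at h
      · exfalso
        have h12 := eq_of_rk (inf_le_right : (X ⊔ (H.perp X ⊓ Y)) ⊓ Y ≤ Y) h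
        have h10 : Y ≤ X ⊔ (H.perp X ⊓ Y) := fun v hv => by
          rw [← h12] at hv; exact hv.1
        have h11 := eq_of_rk h10 (by rw [h6, h2])
        exact h3 (by rw [h11]; exact le_sup_left)
    omega
  uq := by
    intro X Y Z Z' hX hY hZ hZ' h1 h2 h3 h4 h5 h6 h7 h8 h9 h10
    obtain ⟨h11, h12⟩ := H.finrank_L hm hX hY h1 h2 h5 h6
    have key : ∀ Z : Submodule F W, TI g Z → finrank F Z = m → X ≤ Z → finrank F ↥(Z ⊓ Y) + 1 = m →
        X ⊔ (H.perp X ⊓ Y) = Z := by
      intro Z hZ h3 h7 h9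
      have k1 : Z ⊓ Y ≤ H.perp X ⊓ Y := inf_le_inf_right _ (fun z hz x hx => hZ z hz x (h7 hx))
      have k2 := eq_of_rk k1 (by omega)
      refine eq_of_rk (sup_le h7 ?_) (by rw [h12, h3])
      rw [← k2]; exact inf_le_left
    rw [← key Z hZ h3 h7 h9, ← key Z' hZ' h4 h8 h10]

/-! ### The dimension -/

theorem finrank_eq (hm : Witt g m) : finrank F W = 2 * m := by
  obtain ⟨X, hX, hXm⟩ := hm.1
  have h1 := H.finrank_perp X
  have h2 := Submodule.finrank_mono (H.TI_iff.1 hX)
  -- `X^⊥ = X`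
  have key : H.perp X ≤ X := by
    intro v hv
    by_contra hvX
    have h3 := hm.2 _ (H.TI_sup_span hX hv)
    rw [Submodule.finrank_sup_span_singleton hvX] at h3
    omega
  have h3 := Submodule.finrank_mono key
  omega

theorem perp_max (hm : Witt g m) {X : Submodule F W} (hX : TI g X) (h : finrank F X = m) : H.perp X = X := by
  have h1 := H.finrank_perp X
  have h2 := H.finrank_eq hm
  exact (eq_of_rk (H.TI_iff.1 hX) (by omega)).symm

end Symp

end Cfsg.Agent.ParSys.Polar.Sympl
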