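import Mathlib
import Cfsg.Agent.ParSys.Polar.Symp
import Cfsg.Agent.ParSys.Polar.HermCount
import Cfsg.Agent.ParSys.Polar.CardU

/-!
# Groups of isometries of a symplectic space which contain the transvections

`SAct rho sigma` : `C` acts linearly on the symplectic space `W` (characteristic 2), preserves the form and induces all
the transvections; `sigma` is the action on the subspaces.

* `act : Act sigma (TI g)`; `siegel` : the Siegel transformations;
* `card_pan` : all the panels of a maximal flag have `|F| + 1` members;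
* `exists_fl_of` : a maximal flag through a given flag of length `k`.
-/

set_option autoImplicit false
set_option linter.unusedSectionVars false

namespace Cfsg.Agent.ParSys.Polar.Sympl

open Module Cfsg.Agent.ParSys.Polar.Flags

variable {F W : Type*} [Field F] [Finite F] [AddCommGroup W] [Module F W]

/-- `C` acts by isometries and induces all the transvections -/
structure SAct {C : Type*} [Group C] (g : W → W → F) (rho : C → W ≃+ W)
    (sigma : C →* Equiv.Perm (Submodule F W)) : Prop where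
  mul : ∀ a b v, rho (a * b) v = rho a (rho b v)
  sig : ∀ c X w, w ∈ sigma c X ↔ ∃ v ∈ X, rho c v = w
  lin : ∀ c (s : F) v, rho c (s • v) = s • rho c v
  iso : ∀ c u v, g (rho c u) (rho c v) = g u v
  tv : ∀ (y : W) (a : F), ∃ c, ∀ v, rho c v = v + (a * g v y) • y

namespace SAct

variable {C : Type*} [Group C] {g : W → W → F} {rho : C → W ≃+ W}
  {sigma : C →* Equiv.Perm (Submodule F W)} (H : Symp g) (A : SAct g rho sigma)

include A

theorem one (v : W) : rho 1 v = v := by
  have h := A.mul 1 1 v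
  rw [mul_one] at h
  exact (rho 1).injective h.symm

theorem inv_mul_apply (c : C) (v : W) : rho c⁻¹ (rho c v) = v := by
  rw [← A.mul, inv_mul_cancel, A.one]

theorem mul_inv_apply (c : C) (v : W) : rho c (rho c⁻¹ v) = v := by
  rw [← A.mul, mul_inv_cancel, A.one]

theorem mem {c : C} {X : Submodule F W} {v : W} (hv : v ∈ X) : rho c v ∈ sigma c X := (A.sig c X _).2 ⟨v, hv, rfl⟩

theorem mem_iff {c : C} {X : Submodule F W} {v : W} : rho c v ∈ sigma c X ↔ v ∈ X :=
  ⟨fun h => by
    obtain ⟨u, hu, h1⟩ := (A.sig c X _).1 h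
    rwa [← (rho c).injective h1], A.mem⟩

theorem card_eq [FiniteDimensional F W] (c : C) (X : Submodule F W) :
    finrank F ↥(sigma c X) = finrank F X := by
  let e : X → sigma c X := fun v => ⟨rho c (v : W), A.mem v.2⟩
  have he : Function.Bijective e := by
    constructor
    · intro v u h
      exact Subtype.ext ((rho c).injective (congrArg Subtype.val h))
    · rintro ⟨w, hw⟩
      obtain ⟨v, hv, rfl⟩ := (A.sig c X w).1 hw
      exact ⟨⟨v, hv⟩, rfl⟩
  have h1 := Nat.card_congr (Equiv.ofBijective e he)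
  rw [Module.natCard_eq_pow_finrank (K := F), Module.natCard_eq_pow_finrank (K := F) (V := ↥(sigma c X))] at h1
  exact (Nat.pow_right_injective (Finite.one_lt_card (α := F)) h1).symm

theorem eq_of_fix {c : C} {X : Submodule F W} (h : ∀ v ∈ X, rho c v = v) : sigma c X = X := by
  ext w
  rw [A.sig]
  constructor
  · rintro ⟨v, hv, rfl⟩; rwa [h v hv]
  · intro hw; exact ⟨w, hw, h w hw⟩

/-- the image of the span -/
theorem sigma_sup_span {c : C} {X : Submodule F W} {x x' : W} (hX : ∀ v ∈ X, rho c v = v)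
    (hx : rho c x = x') :
    sigma c (X ⊔ (F ∙ x)) = X ⊔ (F ∙ x') := by
  ext w
  rw [A.sig]
  constructor
  · rintro ⟨v, hv, rfl⟩
    obtain ⟨a, ha, b, hb, rfl⟩ := Submodule.mem_sup.1 hv
    obtain ⟨s, rfl⟩ := Submodule.mem_span_singleton.1 hb
    rw [map_add, hX a ha, A.lin, hx]
    exact Submodule.add_mem_sup ha (Submodule.smul_mem _ _ (Submodule.mem_span_singleton_self x'))
  · intro hw
    obtain ⟨a, ha, b, hb, rfl⟩ := Submodule.mem_sup.1 hw
    obtain ⟨s, rfl⟩ := Submodule.mem_span_singleton.1 hb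
    refine ⟨a + s • x, Submodule.add_mem_sup ha (Submodule.smul_mem _ _ (Submodule.mem_span_singleton_self x)), ?_⟩
    rw [map_add, hX a ha, A.lin, hx]

include H

/-- the Siegel transformations -/
theorem siegel {y w : W} (a : F) (hw : g w y = 0) :
    ∃ c, ∀ v, rho c v = v + g v y • w + (g v w + a * g v y) • y := by
  obtain ⟨c₁, h1⟩ := A.tv (y + w) 1
  obtain ⟨c₂, h2⟩ := A.tv w 1
  obtain ⟨c₃, h3⟩ := A.tv y (1 + a)
  have hw' : g y w = 0 := H.zero_comm hw
  refine ⟨c₃ * (c₂ * c₁), fun v => ?_⟩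
  rw [A.mul, A.mul, h1, h2, h3]
  simp only [one_mul, H.add, H.smul, H.add_r, H.self, hw, hw', mul_zero, add_zero, zero_add]
  have e := H.two_w (g v y • y)
  have e1 := H.two_w (g v w • w)
  have e2 : (g v y • w + g v y • w) = 0 := H.two_w _
  have e3 : (g v w • y + g v w • y) = 0 := H.two_w _
  simp only [smul_add, add_smul, mul_smul, one_smul, add_mul, one_mul]
  calc v + (g v y • y + g v w • y + (g v y • w + g v w • w)) + g v w • w + (g v y • y + a • g v y • y)
      = v + g v y • w + (g v w • y + a • g v y • y) + (g v y • y + g v y • y) + (g v w • w + g v w • w) := by abel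
    _ = _ := by rw [e, e1, add_zero, add_zero]

variable [FiniteDimensional F W]

/-- the transitivity, non-orthogonal vectors -/
theorem tr_ne {X : Submodule F W} {x x' : W} (h1 : x ∈ H.perp X) (h1' : x' ∈ H.perp X) (h : g x x' ≠ 0) :
    ∃ c, (∀ v ∈ X, rho c v = v) ∧ sigma c (X ⊔ (F ∙ x)) = X ⊔ (F ∙ x') := by
  obtain ⟨c, hc⟩ := A.tv (x + x') (g x x')⁻¹
  have hX : ∀ v ∈ X, rho c v = v := fun v hv => by
    rw [hc, H.add_r, H.zero_comm (h1 v hv), H.zero_comm (h1' v hv)]; simp
  refine ⟨c, hX, A.sigma_sup_span hX ?_⟩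
  rw [hc, H.add_r, H.self, zero_add, inv_mul_cancel₀ h, one_smul, ← add_assoc, H.two_w, zero_add]

/-- the transitivity -/
theorem tr_span {X : Submodule F W} {x x' : W}
    (h1 : x ∈ H.perp X) (h1' : x' ∈ H.perp X) (h2 : x ∉ X) (h2' : x' ∉ X) :
    ∃ c, (∀ v ∈ X, rho c v = v) ∧ sigma c (X ⊔ (F ∙ x)) = X ⊔ (F ∙ x') := by
  by_cases hb : g x x' = 0
  · obtain ⟨z, hz, hz1, hz2⟩ : ∃ z ∈ H.perp X, g z x ≠ 0 ∧ g z x' ≠ 0 := by
      obtain ⟨z₁, hz1, hz2⟩ := H.exists_ne h2
      obtain ⟨z₂, hz3, hz4⟩ := H.exists_ne h2'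
      by_cases h5 : g z₁ x' = 0
      · by_cases h6 : g z₂ x = 0
        · exact ⟨z₁ + z₂, (H.perp X).add_mem hz1 hz3, by rwa [H.add, h6, add_zero],
            by rwa [H.add, h5, zero_add]⟩
        · exact ⟨z₂, hz3, h6, hz4⟩
      · exact ⟨z₁, hz1, hz2, h5⟩
    obtain ⟨c₁, hc1, hc2⟩ := tr_ne H A h1 hz (H.ne_comm hz1)
    obtain ⟨c₂, hc3, hc4⟩ := tr_ne H A hz h1' hz2
    refine ⟨c₂ * c₁, fun v hv => by rw [A.mul, hc1 v hv, hc3 v hv], ?_⟩
    rw [map_mul, Equiv.Perm.mul_apply, hc2, hc4]
  · exact tr_ne H A h1 h1' hb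

omit A in
/-- a vector generating `Y` over `X` -/
theorem exists_gen {X Y : Submodule F W} (hY : TI g Y) (h : X ≤ Y) (hr : finrank F Y = finrank F X + 1) :
    ∃ x, x ∈ H.perp X ∧ x ∉ X ∧ Y = X ⊔ (F ∙ x) := by
  obtain ⟨x, hx, hxX⟩ : ∃ x ∈ Y, x ∉ X := by
    by_contra hc
    push Not at hc
    have h3 : Y ≤ X := hc
    have := Submodule.finrank_mono h3
    omega
  refine ⟨x, fun v hv => hY x hx v (h hv), hxX, ?_⟩
  symm
  exact eq_of_rk (sup_le h (by rwa [Submodule.span_singleton_le_iff_mem]))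
    (by rw [Submodule.finrank_sup_span_singleton hxX, hr])

/-- **`C` acts on the polar space as required in `Flags`** -/
theorem act : Act sigma (TI g (F := F)) where
  le c X Y h := by
    intro w hw
    obtain ⟨v, hv, rfl⟩ := (A.sig c X w).1 hw
    exact A.mem (h hv)
  rk c X := A.card_eq c X
  sing c X hX := by
    intro x hx y hy
    obtain ⟨v, hv, rfl⟩ := (A.sig c X x).1 hx
    obtain ⟨u, hu, rfl⟩ := (A.sig c X y).1 hy
    rw [A.iso, hX v hv u hu]
  tr X Y Z hY hZ h1 h2 h3 h4 := by
    obtain ⟨x, hx1, hx2, rfl⟩ := exists_gen H hY h1 h3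
    obtain ⟨x', hx1', hx2', rfl⟩ := exists_gen H hZ h2 h4
    obtain ⟨c, hc1, hc2⟩ := tr_span H A hx1 hx1' hx2 hx2'
    exact ⟨c, fun T hT => A.eq_of_fix fun v hv => hc1 v (hT hv), hc2⟩

end SAct

/-! ### Flags and panels -/

namespace Symp

variable [FiniteDimensional F W] {g : W → W → F} (H : Symp g) {m : ℕ} {f : ℕ → Submodule F W}

include H

/-- a maximal flag through a given flag -/
theorem exists_fl_of (hm : Witt g m) {k : ℕ} {f₀ : ℕ → Submodule F W} (h : Fl (TI g (F := F)) k f₀) :
    k ≤ m ∧ ∃ f, Fl (TI g (F := F)) m f ∧ ∀ d ≤ k, f d = f₀ d := by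
  have hk : k ≤ m := by
    have := hm.2 _ h.sing
    rwa [h.rk k le_rfl] at this
  exact ⟨hk, exists_ext (H.polSp hm) h hk⟩

omit H in
/-- the number of subspaces between `A` and `D` -/
theorem card_between {A D : Submodule F W} (h : A ≤ D) (hr : finrank F D = finrank F A + 2) :
    Nat.card {X : Submodule F W | A ≤ X ∧ X ≤ D ∧ finrank F X = finrank F A + 1} = Nat.card F + 1 := by
  have hW : Finite W := Module.finite_of_finite F
  have hQ := Finite.one_lt_card (α := F)
  have h1 := Hermit.card_compl h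
  have e : ∀ X : Submodule F W, ∀ v, A ≤ X → v ∈ X → v ∉ A → finrank F X = finrank F A + 1 →
      X = A ⊔ (F ∙ v) := fun X v h1 h2 h3 h4 => by
    symm
    exact eq_of_rk (sup_le h1 (by rwa [Submodule.span_singleton_le_iff_mem]))
      (by rw [Submodule.finrank_sup_span_singleton h3, h4])
  have h2 := Hermit.card_spread (A := A) (X := {X : Submodule F W | A ≤ X ∧ X ≤ D ∧ finrank F X = finrank F A + 1})
    (T := {v : W | v ∈ D ∧ v ∉ A})
    (b := Nat.card F ^ (finrank F A + 1)) (fun x hx => hx.1)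
    (fun x hx => by rw [Module.natCard_eq_pow_finrank (K := F), hx.2.2])
    (fun v => ?_) (fun x hx x' hx' v hv h1 h2 => ?_)
  · rw [Module.natCard_eq_pow_finrank (K := F) (V := ↥A), Module.natCard_eq_pow_finrank (K := F) (V := ↥D), hr] at h1
    rw [Module.natCard_eq_pow_finrank (K := F) (V := ↥A)] at h2
    have hR : 0 < Nat.card F ^ finrank F A := pow_pos (by omega) _
    rw [pow_succ, pow_succ] at h1
    rw [pow_succ] at h2
    generalize Nat.card {v : W | v ∈ D ∧ v ∉ A} = T at *
    generalize Nat.card {X : Submodule F W | A ≤ X ∧ X ≤ D ∧ finrank F X = finrank F A + 1} = P at *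
    generalize Nat.card F ^ finrank F A = R at *
    generalize Nat.card F = Q at *
    zify at h1 h2 hR hQ ⊢
    have h3 : (R : ℤ) * (Q - 1) * (P - (Q + 1)) = 0 := by linear_combination -h2 + h1
    rcases mul_eq_zero.1 h3 with h | h
    · rcases mul_eq_zero.1 h with h | h <;> omega
    · linarith
  · constructor
    · rintro ⟨hv, hv'⟩
      exact ⟨hv', A ⊔ (F ∙ v), ⟨le_sup_left, sup_le h (by rwa [Submodule.span_singleton_le_iff_mem]),
        Submodule.finrank_sup_span_singleton hv'⟩, Submodule.mem_sup_right (Submodule.mem_span_singleton_self v)⟩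
    · rintro ⟨hv, x, hx, hvx⟩
      exact ⟨hx.2.1 hvx, hv⟩
  · rw [e x v hx.1 h1 hv hx.2.2, e x' v hx'.1 h2 hv hx'.2.2]

/-- **all the panels have `|F| + 1` members** -/
theorem card_pan (hm : Witt g m) (hf : Fl (TI g (F := F)) m f) {j : ℕ} (hj : 1 ≤ j) (hjm : j ≤ m) :
    Nat.card (Flags.Pan (TI g) m f j) = Nat.card F + 1 := by
  obtain ⟨i, rfl⟩ := Nat.exists_eq_add_of_le' hj
  have hS := H.polSp hm
  rcases hjm.lt_or_eq with hlt | heq
  · have h1 := card_between (hf.le (a := i) (b := i + 2) (by omega) (by omega))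
      (by rw [hf.rk _ (by omega), hf.rk _ (by omega)])
    rw [← h1]
    congr 2
    ext X
    rw [hf.rk i (by omega)]
    constructor
    · rintro ⟨-, h2, h3, h4⟩
      exact ⟨h3 i rfl, h4 hlt, h2⟩
    · rintro ⟨h2, h3, h4⟩
      refine ⟨hS.down h3 (hf.si hS (by omega)), h4, fun d hd => ?_, fun _ => h3⟩
      obtain rfl : d = i := by omega
      exact h2
  · have h0 : finrank F ↥(H.perp (f i)) = finrank F ↥(f i) + 2 := by
      have h1 := H.finrank_perp (f i)
      have h2 := H.finrank_eq hm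
      rw [hf.rk i (by omega)] at h1 ⊢
      omega
    have h1 := card_between (H.TI_iff.1 (hf.si hS (d := i) (by omega))) h0
    rw [← h1]
    congr 2
    ext X
    rw [hf.rk i (by omega)]
    constructor
    · rintro ⟨h1, h2, h3, -⟩
      exact ⟨h3 i rfl, fun v hv x hx => h1 v hv x (h3 i rfl hx), h2⟩
    · rintro ⟨h2, h3, h4⟩
      refine ⟨?_, h4, fun d hd => ?_, fun h => by omega⟩
      · obtain ⟨x, hx, hxX⟩ : ∃ x ∈ X, x ∉ f i := by
          by_contra hc
          push Not at hc
          have h5 : X ≤ f i := hc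
          have := Submodule.finrank_mono h5
          rw [hf.rk i (by omega)] at this
          omega
        have e : f i ⊔ (F ∙ x) = X := eq_of_rk (sup_le h2 (by rwa [Submodule.span_singleton_le_iff_mem]))
          (by rw [Submodule.finrank_sup_span_singleton hxX, h4, hf.rk i (by omega)])
        rw [← e]
        exact H.TI_sup_span (hf.si hS (by omega)) (h3 hx)
      · obtain rfl : d = i := by omega
        exact h2

end Symp

end Cfsg.Agent.ParSys.Polar.Sympl
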