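import Mathlib
import Cfsg.Agent.ParSys.Polar.SympAct

/-!
# The stabiliser of a maximal flag in a group of isometries of a symplectic space

`Pol C g rho sigma m f` : `C ≤ G` acts by isometries on the symplectic space `W` (characteristic 2), induces all the
transvections, `f` is a maximal flag; `B = fst C sigma m f ∅` is the stabiliser of the flag.

* `Pol.siegel_mem` : the Siegel elements of `B`;
* `Pol.card_le` : `|Q| |F|^(m^2) ≤ |B|`, `Q` the kernel;
* `Pol.self_norm` : `B` is self-normalising in `C`;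
* `Pol.pow_triv` (`|F| = 2`) : `x ^ (2 ^ (m + 1))` acts trivially, `x ∈ B`;
* `exists_fl_inv` (`|F| = 2`) : a 2-group fixes a maximal flag through a given invariant flag;
* `Pol.rk_two`, `Pol.rk_three`, `Pol.rk_four`, `Pol.relIndex`, `Pol.gen`.
-/

set_option autoImplicit false
set_option linter.unusedSectionVars false

namespace Cfsg.Agent.ParSys.Polar.Sympl

open Module Cfsg.Agent.ParSys.Polar.Flags Cfsg.Agent.ParSys.Polar.Incid

variable {F W : Type*} [Field F] [Finite F] [AddCommGroup W] [Module F W] {G : Type*} [Group G]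

/-- `C` acts on a symplectic space of Witt index `m`, `f` is a maximal flag -/
structure Pol (C : Subgroup G) (g : W → W → F) (rho : ↥C → W ≃+ W)
    (sigma : ↥C →* Equiv.Perm (Submodule F W)) (m : ℕ) (f : ℕ → Submodule F W) : Prop where
  H : Symp g
  A : SAct g rho sigma
  hm : Witt g m
  hf : Fl (TI g) m f

variable {C : Subgroup G} {g : W → W → F} {rho : ↥C → W ≃+ W}
  {sigma : ↥C →* Equiv.Perm (Submodule F W)} {m : ℕ} {f : ℕ → Submodule F W}

namespace Pol

variable (p : Pol C g rho sigma m f) [FiniteDimensional F W]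

include p

theorem polSp : PolSp (TI g (F := F)) m := p.H.polSp p.hm

theorem act : Act sigma (TI g (F := F)) := SAct.act p.H p.A

/-- an element which acts as a Siegel transformation with singular vector in `f i` and centre in `(f i)^⊥` -/
theorem siegel_fix {i : ℕ} (him : i ≤ m) {y w : W} {a : F} (hy : y ∈ f i)
    (hw : w ∈ p.H.perp (f i)) {c : ↥C}
    (hc : ∀ v, rho c v = v + g v y • w + (g v w + a * g v y) • y) : ∀ d ≤ m, sigma c (f d) = f d := by
  have hym : y ∈ f m := p.hf.le him le_rfl hy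
  have H := p.H
  have k2 : ∀ d ≤ m, ∀ v ∈ f d, rho c v = v + g v w • y := fun d hd v hv => by
    rw [hc, p.hf.sing v (p.hf.le hd le_rfl hv) y hym]; simp
  have k3 : ∀ v ∈ f i, g v w = 0 := fun v hv => H.zero_comm (hw v hv)
  have k4 : ∀ d ≤ m, ∀ v ∈ f d, rho c v ∈ f d := fun d hd v hv => by
    rw [k2 d hd v hv]
    by_cases hdi : d ≤ i
    · rw [k3 v (p.hf.le hdi him hv), zero_smul, add_zero]; exact hv
    · exact Submodule.add_mem _ hv (Submodule.smul_mem _ _ (p.hf.le (by omega) hd hy))
  intro d hd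
  apply eq_of_rk
  · intro z hz
    obtain ⟨v, hv, rfl⟩ := (p.A.sig _ _ _).1 hz
    exact k4 d hd v hv
  · exact p.A.card_eq _ _

/-- the Siegel elements of the flag stabiliser -/
theorem siegel_mem {i : ℕ} (him : i ≤ m) {y w : W} (a : F) (hy : y ∈ f i)
    (hw : w ∈ p.H.perp (f i)) :
    ∃ c : ↥C, (c : G) ∈ fst C sigma m f ∅ ∧ ∀ v, rho c v = v + g v y • w + (g v w + a * g v y) • y := by
  obtain ⟨c, hc⟩ := SAct.siegel p.H p.A (y := y) (w := w) a (hw y hy)
  refine ⟨c, ?_, hc⟩
  rw [coe_mem_fst]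
  exact fun d hd _ => p.siegel_fix him hy hw hc d hd

/-- **the order of the flag stabiliser** -/
theorem card_le [Finite G] {Q : Subgroup G} (hQC : Q ≤ C) (hQ : ∀ x (h : x ∈ Q) v, rho ⟨x, hQC h⟩ v = v) :
    Nat.card Q * Nat.card F ^ (m ^ 2) ≤ Nat.card (fst C sigma m f ∅) := by
  classical
  have hW : Finite W := Module.finite_of_finite F
  have H := p.H
  have hex : ∀ d, ∃ v, d < m → v ∈ f (d + 1) ∧ v ∉ f d := by
    intro d
    by_cases hd : d < m
    · obtain ⟨v, -, h1, h2⟩ := SAct.exists_gen H (p.hf.si p.polSp (d := d + 1) hd) (p.hf.mono d hd)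
        (by rw [p.hf.rk _ hd, p.hf.rk _ hd.le])
      exact ⟨v, fun _ => ⟨by rw [h2]; exact Submodule.mem_sup_right (Submodule.mem_span_singleton_self v), h1⟩⟩
    · exact ⟨0, fun h => absurd h hd⟩
  choose e₀ he₀ using hex
  let e : ℕ → W := fun d => e₀ (d - 1)
  have he1 : ∀ d < m, e (d + 1) ∈ f (d + 1) := fun d hd => (he₀ d hd).1
  have he2 : ∀ d < m, e (d + 1) ∉ f d := fun d hd => (he₀ d hd).2
  obtain ⟨e', he'⟩ := CardU.exists_dual (sg := id) (g := g) (f := f) (e := e) H.add H.smul H.sym
    (fun _ _ => rfl) (fun _ _ => rfl) (fun _ => rfl) (fun w hw => H.nd w fun u => H.zero_comm (hw u))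
    p.hf.mono he1 he2
  -- `f i` is spanned by the `e j`
  have hspan : ∀ i ≤ m, ∀ w, (∀ j, 1 ≤ j → j ≤ i → g w (e j) = 0) → w ∈ H.perp (f i) := by
    intro i
    induction i with
    | zero =>
      intro _ w _ x hx
      rw [p.hf.zero, Submodule.mem_bot] at hx
      rw [hx]; exact H.zero_r w
    | succ i ih =>
      intro hi w hw
      have h1 : f (i + 1) = f i ⊔ (F ∙ e (i + 1)) := by
        symm
        exact eq_of_rk (sup_le (p.hf.mono i hi) (by
          rw [Submodule.span_singleton_le_iff_mem]; exact he1 i hi))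
          (by rw [Submodule.finrank_sup_span_singleton (he2 i hi), p.hf.rk _ hi, p.hf.rk i (by omega)])
      rw [h1, H.mem_perp_sup, H.mem_perp_span]
      exact ⟨ih (by omega) w fun j h1 h2 => hw j h1 (by omega), hw (i + 1) (by omega) le_rfl⟩
  let rho' : G → W → W := fun x v => if h : x ∈ C then rho ⟨x, h⟩ v else v
  have hr : ∀ x (h : x ∈ C) v, rho' x v = rho ⟨x, h⟩ v := fun x h v => dif_pos h
  set U := fst C sigma m f ∅ with hU
  have hUC : ∀ x ∈ U, x ∈ C := fun x hx => hx.1
  have D : CardU.Dat F id g rho' U m e e' :=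
    { one := fun v => by rw [hr 1 C.one_mem]; exact p.A.one v
      mul := fun x hx y hy v => by
        rw [hr _ (mul_mem (hUC x hx) (hUC y hy)), hr x (hUC x hx), hr y (hUC y hy)]
        exact p.A.mul ⟨x, hUC x hx⟩ ⟨y, hUC y hy⟩ v
      sg_one := rfl
      sg_add := fun _ _ => rfl
      g_add := H.add
      g_smul := H.smul
      g_sym := H.sym
      ee' := he'
      tr := fun w => ⟨0, by rw [H.self]; simp⟩
      sieg := by
        intro i hi1 hi w hw a _
        obtain ⟨d, rfl⟩ := Nat.exists_eq_add_of_le' hi1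
        obtain ⟨x, hx, h1⟩ := p.siegel_mem hi a (he1 d hi) (hspan _ hi w fun j h1 h2 => (hw j h1 h2).1)
        exact ⟨x, hx, fun v => by rw [hr x x.2]; exact h1 v⟩ }
  have h1 := D.card_le' (k := m) le_rfl
  have hQU : Nat.card Q ≤ Nat.card (D.Uc m) := by
    have h2 : Q ≤ D.Uc m := fun x hx => by
      have h3 : ∀ v, rho ⟨x, hQC hx⟩ v = v := fun v => hQ x hx v
      refine ⟨⟨hQC hx, fun d _ _ => p.A.eq_of_fix fun v _ => h3 v⟩, fun j _ _ => ?_⟩
      rw [hr x (hQC hx)]; exact h3 _
    exact Subgroup.card_le_of_le h2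
  have hW2 : Nat.card W = Nat.card F ^ (2 * m) := by
    rw [Module.natCard_eq_pow_finrank (K := F), H.finrank_eq p.hm]
  have hF1 := Finite.one_lt_card (α := F)
  have hWs : ∀ i, i < m → Nat.card F ^ (2 * (m - (i + 1)) + 1) ≤
      Nat.card (D.Ws (i + 1)) * Nat.card {a : F // a + id a = 0} := by
    intro i hi
    have h2 := D.card_Ws (i + 1)
    rw [hW2] at h2
    have h3 : Nat.card F ^ (2 * m) = Nat.card F ^ (2 * (m - (i + 1))) * Nat.card F ^ (2 * (i + 1)) := by
      rw [← pow_add]; congr 1; omega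
    rw [h3] at h2
    have h4 := Nat.le_of_mul_le_mul_right h2 (by positivity)
    have h5 : Nat.card {a : F // a + id a = 0} = Nat.card F :=
      Nat.card_congr (Equiv.subtypeUnivEquiv fun a => H.two_self a)
    rw [h5, pow_succ]
    exact Nat.mul_le_mul_right _ h4
  have hprod : ∀ k ≤ m, Nat.card F ^ (k * (2 * m - k)) ≤
      ∏ i ∈ Finset.range k, (Nat.card (D.Ws (i + 1)) * Nat.card {a : F // a + id a = 0}) := by
    intro k hk
    induction k with
    | zero => simp
    | succ k ih =>
      rw [Finset.prod_range_succ]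
      refine le_trans ?_ (Nat.mul_le_mul (ih (by omega)) (hWs k (by omega)))
      rw [← pow_add]
      apply le_of_eq
      congr 1
      obtain ⟨r, rfl⟩ : ∃ r, m = (k + 1) + r := ⟨m - (k + 1), by omega⟩
      have e1 : 2 * (k + 1 + r) - (k + 1) = (k + 1) + 2 * r := by omega
      have e2 : 2 * (k + 1 + r) - k = k + 2 + 2 * r := by omega
      have e3 : k + 1 + r - (k + 1) = r := by omega
      rw [e1, e2, e3]
      ring
  refine le_trans ?_ h1
  rw [mul_comm]
  refine Nat.mul_le_mul ?_ hQU
  have h2 := hprod m le_rfl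
  have e : m * (2 * m - m) = m ^ 2 := by
    have : 2 * m - m = m := by omega
    rw [this, pow_two]
  rwa [e] at h2

/-- **the flag stabiliser is self-normalising** -/
theorem self_norm {x : G} (hx : x ∈ C) (h : ∀ b ∈ fst C sigma m f ∅, x⁻¹ * b * x ∈ fst C sigma m f ∅) :
    x ∈ fst C sigma m f ∅ := by
  have H := p.H
  have hS := p.polSp
  -- the flag `x f` is invariant
  have hinv : ∀ b : ↥C, (b : G) ∈ fst C sigma m f ∅ → ∀ d ≤ m,
      sigma b (sigma ⟨x, hx⟩ (f d)) = sigma ⟨x, hx⟩ (f d) := by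
    intro b hb d hd
    have h1 := h b hb
    have e : x⁻¹ * (b : G) * x = (((⟨x, hx⟩ : ↥C)⁻¹ * b * ⟨x, hx⟩ : ↥C) : G) := rfl
    rw [e, coe_mem_fst] at h1
    have h2 := h1 d hd (by simp)
    rw [mul_assoc, map_mul, map_mul, map_inv, Equiv.Perm.mul_apply, Equiv.Perm.mul_apply,
      Equiv.Perm.inv_eq_iff_eq] at h2
    exact h2
  set c : ↥C := ⟨x, hx⟩ with hc
  have hA := p.act
  have key : ∀ d ≤ m, sigma c (f d) = f d := by
    intro d
    induction d with
    | zero =>
      intro _
      rw [p.hf.zero]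
      apply Submodule.finrank_eq_zero.1
      rw [hA.rk]
      exact finrank_bot F W
    | succ d ih =>
      intro hd
      have ih := ih (by omega)
      set X := sigma c (f (d + 1)) with hX
      have hXr : finrank F X = d + 1 := by rw [hX, hA.rk, p.hf.rk _ hd]
      have hXd : f d ≤ X := by rw [← ih]; exact hA.le c (p.hf.mono d hd)
      have hXt : TI g X := hA.sing c (p.hf.si hS hd)
      obtain ⟨v, hv, hvd⟩ : ∃ v ∈ X, v ∉ f d := by
        by_contra hcon
        push Not at hcon
        have h5 : X ≤ f d := hcon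
        have := Submodule.finrank_mono h5
        rw [p.hf.rk d (by omega)] at this
        omega
      obtain ⟨y, hyp, hyd, hfy⟩ := SAct.exists_gen H (p.hf.si hS hd) (p.hf.mono d hd)
        (by rw [p.hf.rk _ hd, p.hf.rk d (by omega)])
      have hy : y ∈ f (d + 1) := by
        rw [hfy]; exact Submodule.mem_sup_right (Submodule.mem_span_singleton_self y)
      have hsv : ∀ w ∈ H.perp (f (d + 1)), ∀ a : F, g v y • w + (g v w + a * g v y) • y ∈ X := by
        intro w hw a
        obtain ⟨b, hb, hbv⟩ := p.siegel_mem hd a hy hw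
        have h1 : rho b v ∈ X := by
          have := p.A.mem (c := b) hv
          rwa [hX, hinv b hb _ hd] at this
        rw [hbv] at h1
        have h2 := X.sub_mem h1 hv
        have e : v + g v y • w + (g v w + a * g v y) • y - v = g v y • w + (g v w + a * g v y) • y := by abel
        rwa [e] at h2
      by_cases hyX : y ∈ X
      · symm
        refine eq_of_rk ?_ (by rw [hXr, p.hf.rk _ hd])
        rw [hfy]
        exact sup_le hXd (by rwa [Submodule.span_singleton_le_iff_mem])
      · -- `g v y = 0`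
        have h0 : g v y = 0 := by
          by_contra hne
          have h1 := hsv 0 (H.perp _).zero_mem 1
          rw [smul_zero, zero_add, H.zero_r, zero_add, one_mul] at h1
          exact hyX ((Submodule.smul_mem_iff X hne).1 h1)
        have h2 : ∀ w ∈ H.perp (f (d + 1)), g v w = 0 := by
          intro w hw
          by_contra hne
          have h1 := hsv w hw 0
          rw [h0, zero_smul, zero_add, zero_mul, add_zero] at h1
          exact hyX ((Submodule.smul_mem_iff X hne).1 h1)
        have h3 : v ∈ f (d + 1) := by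
          rw [← H.perp_perp (f (d + 1))]
          exact h2
        have h4 : X = f d ⊔ (F ∙ v) := by
          symm
          exact eq_of_rk (sup_le hXd (by rwa [Submodule.span_singleton_le_iff_mem]))
            (by rw [Submodule.finrank_sup_span_singleton hvd, hXr, p.hf.rk d (by omega)])
        refine eq_of_rk ?_ (by rw [hXr, p.hf.rk _ hd])
        rw [h4]
        exact sup_le (p.hf.mono d hd) (by rwa [Submodule.span_singleton_le_iff_mem])
  exact ⟨hx, fun d hd _ => key d hd⟩

/-! ### `|F| = 2` -/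

/-- an element of the flag stabiliser acts trivially on the factors of the flag, `|F| = 2` -/
theorem sub_mem_of_two (hF : Nat.card F = 2) {c : ↥C} (hc : (c : G) ∈ fst C sigma m f ∅) {d : ℕ} (hd : d < m)
    {v : W} (hv : v ∈ f (d + 1)) : rho c v - v ∈ f d := by
  classical
  rw [coe_mem_fst] at hc
  have h1 := hc (d + 1) hd (by simp)
  have h2 := hc d hd.le (by simp)
  have h3 : rho c v ∈ f (d + 1) := by rw [← h1]; exact p.A.mem hv
  have hF1 : ∀ a : F, a = 0 ∨ a = 1 := by
    intro a
    by_contra hcon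
    push Not at hcon
    have := Fintype.ofFinite F
    have h4 : ({0, 1, a} : Finset F).card ≤ 2 := by
      rw [← hF, Nat.card_eq_fintype_card]
      exact Finset.card_le_univ _
    rw [Finset.card_eq_three.2 ⟨0, 1, a, zero_ne_one, Ne.symm hcon.1, Ne.symm hcon.2, rfl⟩] at h4
    omega
  by_cases hvd : v ∈ f d
  · exact Submodule.sub_mem _ (by rw [← h2]; exact p.A.mem hvd) hvd
  -- `f (d+1) = f d + ⟨v⟩`
  have h4 : f (d + 1) = f d ⊔ (F ∙ v) := by
    symm
    exact eq_of_rk (sup_le (p.hf.mono d hd) (by rwa [Submodule.span_singleton_le_iff_mem]))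
      (by rw [Submodule.finrank_sup_span_singleton hvd, p.hf.rk _ hd, p.hf.rk d hd.le])
  rw [h4] at h3
  obtain ⟨a, ha, b, hb, h5⟩ := Submodule.mem_sup.1 h3
  obtain ⟨s, rfl⟩ := Submodule.mem_span_singleton.1 hb
  rcases hF1 s with rfl | rfl
  · exfalso
    rw [zero_smul, add_zero] at h5
    rw [h5] at ha
    rw [← h2, p.A.mem_iff] at ha
    exact hvd ha
  · rw [← h5, one_smul, add_sub_cancel_right]
    exact ha

theorem rho_pow_one {c : ↥C} {n : ℕ} {v : W} (h : rho (c ^ n) v = v) : rho (c ^ (n * 2)) v = v := by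
  rw [pow_mul, pow_two, p.A.mul, h, h]

/-- **the flag stabiliser is a 2-group modulo the kernel**, `|F| = 2` -/
theorem pow_triv (hF : Nat.card F = 2) {c : ↥C} (hc : (c : G) ∈ fst C sigma m f ∅) (v : W) :
    rho (c ^ 2 ^ (m + 1)) v = v := by
  have hmem : ∀ k : ℕ, ((c ^ k : ↥C) : G) ∈ fst C sigma m f ∅ := fun k => by
    rw [Subgroup.coe_pow]; exact pow_mem hc k
  have key : ∀ d ≤ m, ∀ v ∈ f d, rho (c ^ 2 ^ d) v = v := by
    intro d
    induction d with
    | zero =>
      intro _ v hv
      rw [p.hf.zero, Submodule.mem_bot] at hv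
      rw [hv, map_zero]
    | succ d ih =>
      intro hd v hv
      have h1 := p.sub_mem_of_two hF (hmem (2 ^ d)) hd hv
      have h2 := ih (by omega) _ h1
      rw [pow_succ, pow_mul, pow_two, p.A.mul]
      have h3 : rho (c ^ 2 ^ d) v = v + (rho (c ^ 2 ^ d) v - v) := by abel
      rw [h3, map_add, h2]
      have h4 := p.H.two_w (rho (c ^ 2 ^ d) v - v)
      calc rho (c ^ 2 ^ d) v + (rho (c ^ 2 ^ d) v - v) = v + ((rho (c ^ 2 ^ d) v - v) + (rho (c ^ 2 ^ d) v - v)) := by
            abel
        _ = v := by rw [h4, add_zero]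
  have hm : ∀ v ∈ f m, rho (c ^ 2 ^ m) v = v := key m le_rfl
  have h1 : rho (c ^ 2 ^ m) v - v ∈ f m := by
    rw [← p.H.perp_max p.hm p.hf.sing (p.hf.rk m le_rfl)]
    intro u hu
    have h2 := p.A.iso (c ^ 2 ^ m) v u
    rw [hm u hu] at h2
    rw [p.H.sub_w, p.H.add, h2, p.H.two_self]
  rw [pow_succ, pow_mul, pow_two, p.A.mul]
  have h2 := hm _ h1
  have h3 : rho (c ^ 2 ^ m) v = v + (rho (c ^ 2 ^ m) v - v) := by abel
  rw [h3, map_add, h2]
  have h4 := p.H.two_w (rho (c ^ 2 ^ m) v - v)
  calc rho (c ^ 2 ^ m) v + (rho (c ^ 2 ^ m) v - v) = v + ((rho (c ^ 2 ^ m) v - v) + (rho (c ^ 2 ^ m) v - v)) := by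
        abel
    _ = v := by rw [h4, add_zero]

/-! ### The residues -/

variable {I : Type*} {P : I → Subgroup G} {a b : I} {i j : ℕ}
  (hB : ∀ k, fst C sigma m f ∅ ≤ P k)
  (ha : P a = fst C sigma m f {i}) (hb : P b = fst C sigma m f {j})

include hB ha hb

theorem rk_two (hij : i + 1 < j) (hj : j ≤ m) :
    Rk (fst C sigma m f ∅) P a b 2 ∧ Rk (fst C sigma m f ∅) P b a 2 :=
  Flags.rk_two p.polSp p.act p.hf hB ha hb hij hj

theorem rk_three (hi : 1 ≤ i) (hij : i + 1 = j) (hj : j < m) :
    Rk (fst C sigma m f ∅) P a b 3 ∧ Rk (fst C sigma m f ∅) P b a 3 :=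
  Flags.rk_three p.polSp p.act p.hf hB ha hb hi hij hj

theorem rk_four (hi : 1 ≤ i) (hij : i + 1 = j) (hj : j = m) :
    Rk (fst C sigma m f ∅) P a b 4 ∧ Rk (fst C sigma m f ∅) P b a 4 :=
  Flags.rk_four p.polSp p.act p.hf hB ha hb hi hij hj

omit hB ha hb in
theorem relIndex (hj1 : 1 ≤ j) (hj : j ≤ m) :
    (fst C sigma m f ∅).relIndex (fst C sigma m f {j}) = Nat.card F + 1 := by
  rw [relIndex_fst p.polSp p.act p.hf hj, p.H.card_pan p.hm p.hf hj1 hj]

omit hB ha hb in
theorem gen (hm1 : 1 ≤ m) {N : Subgroup G} (hN : ∀ j, 1 ≤ j → j ≤ m → fst C sigma m f {j} ≤ N) : C ≤ N :=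
  le_of_panels p.polSp p.act p.hf hm1 hN

end Pol

/-! ### Invariant flags -/

section invariant

variable [FiniteDimensional F W] (H : Symp g) {S : Type*} [Group S] {tau : S →* Equiv.Perm (Submodule F W)}

include H

/-- the number of totally isotropic subspaces of dimension `d + 1` over a given one of dimension `d < m` is odd,
`|F| = 2` -/
theorem odd_over (hF : Nat.card F = 2) (hm : Witt g m) {X : Submodule F W} (hX : TI g X) (hd : finrank F X < m) :
    Odd (Nat.card {Y : Submodule F W | TI g Y ∧ X ≤ Y ∧ finrank F Y = finrank F X + 1}) := by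
  have hW : Finite W := Module.finite_of_finite F
  have hle : X ≤ H.perp X := H.TI_iff.1 hX
  have h1 := Hermit.card_compl hle
  have e : ∀ Y : Submodule F W, ∀ v, X ≤ Y → v ∈ Y → v ∉ X → finrank F Y = finrank F X + 1 →
      Y = X ⊔ (F ∙ v) := fun Y v h1 h2 h3 h4 => by
    symm
    exact eq_of_rk (sup_le h1 (by rwa [Submodule.span_singleton_le_iff_mem]))
      (by rw [Submodule.finrank_sup_span_singleton h3, h4])
  have h2 := Hermit.card_spread (A := X)
    (X := {Y : Submodule F W | TI g Y ∧ X ≤ Y ∧ finrank F Y = finrank F X + 1})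
    (T := {v : W | v ∈ H.perp X ∧ v ∉ X})
    (b := Nat.card F ^ (finrank F X + 1)) (fun x hx => hx.2.1)
    (fun x hx => by rw [Module.natCard_eq_pow_finrank (K := F), hx.2.2])
    (fun v => ?_) (fun x hx x' hx' v hv h1 h2 => ?_)
  · have h3 := H.finrank_perp X
    have h4 := H.finrank_eq hm
    rw [Module.natCard_eq_pow_finrank (K := F) (V := ↥X), Module.natCard_eq_pow_finrank (K := F) (V := ↥(H.perp X)),
      hF] at h1
    rw [Module.natCard_eq_pow_finrank (K := F) (V := ↥X), hF] at h2
    obtain ⟨k, hk⟩ : ∃ k, finrank F ↥(H.perp X) = finrank F X + (k + 1) := ⟨2 * m - 2 * finrank F X - 1, by omega⟩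
    rw [hk, pow_add] at h1
    rw [pow_succ] at h2
    have hR : 0 < 2 ^ finrank F X := pow_pos (by omega) _
    generalize Nat.card {v : W | v ∈ H.perp X ∧ v ∉ X} = T at *
    generalize Nat.card {Y : Submodule F W | TI g Y ∧ X ≤ Y ∧ finrank F Y = finrank F X + 1} = P at *
    generalize 2 ^ finrank F X = R at *
    -- T + R = R 2^(k+1), T + P R = P (R 2)
    have h5 : R * (P + 1) = R * 2 ^ (k + 1) := by nlinarith
    have h6 := Nat.eq_of_mul_eq_mul_left hR h5
    rw [← Nat.not_even_iff_odd]
    intro hev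
    have h7 : Even (2 ^ (k + 1)) := by rw [pow_succ]; exact even_two.mul_left _
    rw [← h6] at h7
    exact absurd h7 (by rw [Nat.not_even_iff_odd]; exact hev.add_one)
  · constructor
    · rintro ⟨hv, hv'⟩
      exact ⟨hv', X ⊔ (F ∙ v), ⟨H.TI_sup_span hX hv, le_sup_left, Submodule.finrank_sup_span_singleton hv'⟩,
        Submodule.mem_sup_right (Submodule.mem_span_singleton_self v)⟩
    · rintro ⟨hv, x, hx, hvx⟩
      exact ⟨fun y hy => hx.1 v hvx y (hx.2.1 hy), hv⟩
  · rw [e x v hx.2.1 h1 hv hx.2.2, e x' v hx'.2.1 h2 hv hx'.2.2]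

/-- **a 2-group fixes a maximal flag through a given invariant flag**, `|F| = 2` -/
theorem exists_fl_inv [Finite S] (hF : Nat.card F = 2) (hm : Witt g m) (hS : IsPGroup 2 S)
    (hle : ∀ s {X Y : Submodule F W}, X ≤ Y → tau s X ≤ tau s Y)
    (hrk : ∀ s (X : Submodule F W), finrank F ↥(tau s X) = finrank F X)
    (hti : ∀ s {X : Submodule F W}, TI g X → TI g (tau s X))
    {k : ℕ} {f₀ : ℕ → Submodule F W} (h : Fl (TI g (F := F)) k f₀) (hinv : ∀ s, ∀ d ≤ k, tau s (f₀ d) = f₀ d) :
    k ≤ m ∧ ∃ f, Fl (TI g (F := F)) m f ∧ (∀ d ≤ k, f d = f₀ d) ∧ ∀ s, ∀ d ≤ m, tau s (f d) = f d := by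
  have hk : k ≤ m := by
    have := hm.2 _ h.sing
    rwa [h.rk k le_rfl] at this
  refine ⟨hk, ?_⟩
  have hfin : Finite W := Module.finite_of_finite F
  have hfs : Finite (Submodule F W) := Finite.of_injective (fun X : Submodule F W => (X : Set W)) SetLike.coe_injective
  have key : ∀ j, k + j ≤ m → ∃ f, Fl (TI g (F := F)) (k + j) f ∧ (∀ d ≤ k, f d = f₀ d) ∧
      ∀ s, ∀ d ≤ k + j, tau s (f d) = f d := by
    intro j
    induction j with
    | zero => intro _; exact ⟨f₀, h, fun _ _ => rfl, hinv⟩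
    | succ j ih =>
      intro hj
      obtain ⟨f, h1, h2, h3⟩ := ih (by omega)
      have hr := h1.rk (k + j) le_rfl
      -- the action on the members over `f (k + j)`
      set Ω : Set (Submodule F W) :=
        {Y : Submodule F W | TI g Y ∧ f (k + j) ≤ Y ∧ finrank F Y = finrank F (f (k + j)) + 1} with hΩ
      have hmap : ∀ s, ∀ Y ∈ Ω, tau s Y ∈ Ω := by
        rintro s Y ⟨h4, h5, h6⟩
        refine ⟨hti s h4, ?_, by rw [hrk, h6]⟩
        rw [← h3 s (k + j) le_rfl]
        exact hle s h5
      let _ : MulAction S Ω :=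
        { smul := fun s Y => ⟨tau s Y.1, hmap s Y.1 Y.2⟩
          one_smul := fun Y => Subtype.ext (by show tau 1 Y.1 = Y.1; rw [map_one]; rfl)
          mul_smul := fun s t Y => Subtype.ext (by
            show tau (s * t) Y.1 = tau s (tau t Y.1)
            rw [map_mul]; rfl) }
      have hodd := odd_over H hF hm h1.sing (by rw [hr]; omega)
      have hfΩ : Finite Ω := inferInstance
      obtain ⟨⟨Y, hY⟩, hfix⟩ := hS.nonempty_fixed_point_of_prime_not_dvd_card Ω (by
        intro hd
        rw [← Nat.not_even_iff_odd] at hodd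
        exact hodd (even_iff_two_dvd.2 hd))
      have hfix' : ∀ s, tau s Y = Y := fun s => congrArg Subtype.val (hfix s)
      obtain ⟨hY1, hY2, hY3⟩ := hY
      refine ⟨Function.update f (k + j + 1) Y, ⟨?_, ?_, ?_⟩, ?_, ?_⟩
      · intro e he
        rw [Function.update_of_ne (by omega)]
        by_cases h4 : e = k + j
        · subst h4; rw [Function.update_self]; exact hY2
        · rw [Function.update_of_ne (by omega)]; exact h1.mono e (by omega)
      · intro e he
        by_cases h4 : e = k + j + 1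
        · subst h4; rw [Function.update_self, hY3, hr]
        · rw [Function.update_of_ne h4]; exact h1.rk e (by omega)
      · show TI g (Function.update f (k + j + 1) Y (k + j + 1))
        rw [Function.update_self]; exact hY1
      · intro d hd
        rw [Function.update_of_ne (by omega)]; exact h2 d hd
      · intro s d hd
        by_cases h4 : d = k + j + 1
        · subst h4; rw [Function.update_self]; exact hfix' s
        · rw [Function.update_of_ne h4]; exact h3 s d (by omega)
  obtain ⟨j, rfl⟩ := Nat.exists_eq_add_of_le hk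
  exact key j le_rfl

end invariant

end Cfsg.Agent.ParSys.Polar.Sympl
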