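import Mathlib
import Cfsg.Agent.ParSys.Polar.HermCount
import Cfsg.Agent.ParSys.Polar.CardU

/-!
# The unipotent group of a flag in a hermitian space

`Pol` : all the data (`C` acts on a hermitian space of Witt index `m`, `f` is a maximal flag).
`Un` : the elements of `C` which act linearly and isometrically and centralise the factors of
`0 < f 1 < ... < f m ≤ (f m)^⊥`.

* `Pol.un_le`, `Pol.pan`, `Pol.clo` : as required in `FreeLoc.SysL`;
* `Pol.siegel_mem` : the Siegel elements of `Un`; `Pol.card_un` : the order of `Un`;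
* `Pol.rk_two`, `Pol.rk_three`, `Pol.rk_four`, `Pol.relIndex_lt`, `Pol.relIndex_last`, `Pol.gen`.
-/

set_option autoImplicit false
set_option linter.unusedSectionVars false

namespace Cfsg.Agent.ParSys.Polar.Unip

open Module Cfsg.Agent.ParSys.Polar.Flags Cfsg.Agent.ParSys.Polar.Hermit Cfsg.Agent.ParSys.Polar.Incid

variable {F W : Type*} [Field F] [AddCommGroup W] [Module F W] {G : Type*} [Group G]

/-- `C` acts on a hermitian space of Witt index `m`, `f` is a maximal flag -/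
structure Pol (C : Subgroup G) (q : ℕ) (sg : F →+* F) (g : W → W → F) (rho : ↥C → W ≃+ W)
    (sigma : ↥C →* Equiv.Perm (Submodule F W)) (m : ℕ) (f : ℕ → Submodule F W) : Prop where
  H : Herm q sg g
  A : HAct sg g rho sigma
  hm : Witt g m
  hf : Fl (TI g (F := F)) m f

/-- the conditions for the elements of the unipotent group of the flag -/
structure IsUn {C : Subgroup G} (g : W → W → F) (rho : ↥C → W ≃+ W)
    (sigma : ↥C →* Equiv.Perm (Submodule F W)) (m : ℕ) (f : ℕ → Submodule F W) (c : ↥C) : Prop where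
  fix : ∀ d ≤ m, sigma c (f d) = f d
  lin : ∀ (s : F) v, rho c (s • v) = s • rho c v
  iso : ∀ u v, g (rho c u) (rho c v) = g u v
  step : ∀ d < m, ∀ v ∈ f (d + 1), rho c v - v ∈ f d
  last : ∀ v, (∀ x ∈ f m, g v x = 0) → rho c v - v ∈ f m

variable {C : Subgroup G} {q : ℕ} {sg : F →+* F} {g : W → W → F} {rho : ↥C → W ≃+ W}
  {sigma : ↥C →* Equiv.Perm (Submodule F W)} {m : ℕ} {f : ℕ → Submodule F W}

/-- **the unipotent group of the flag** -/
def Un (A : HAct sg g rho sigma) (m : ℕ) (f : ℕ → Submodule F W) : Subgroup G where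
  carrier := {x | ∃ h : x ∈ C, IsUn g rho sigma m f ⟨x, h⟩}
  one_mem' := by
    refine ⟨C.one_mem, ?_⟩
    rw [show (⟨1, C.one_mem⟩ : ↥C) = 1 from rfl]
    refine ⟨fun d _ => by rw [map_one]; rfl, fun s v => by rw [A.one, A.one], fun u v => by rw [A.one, A.one],
      fun d _ v _ => ?_, fun v _ => ?_⟩
    · rw [A.one, sub_self]; exact Submodule.zero_mem _
    · rw [A.one, sub_self]; exact Submodule.zero_mem _
  mul_mem' := by
    rintro x y ⟨hx, h1⟩ ⟨hy, h2⟩
    refine ⟨mul_mem hx hy, ?_⟩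
    rw [show (⟨x * y, mul_mem hx hy⟩ : ↥C) = ⟨x, hx⟩ * ⟨y, hy⟩ from rfl]
    have key : ∀ d ≤ m, ∀ v, rho ⟨x, hx⟩ v - v ∈ f d → rho ⟨y, hy⟩ v - v ∈ f d →
        rho (⟨x, hx⟩ * ⟨y, hy⟩) v - v ∈ f d := by
      intro d hd v h3 h4
      rw [A.mul]
      have h5 : rho ⟨x, hx⟩ (rho ⟨y, hy⟩ v) - v
          = rho ⟨x, hx⟩ (rho ⟨y, hy⟩ v - v) + (rho ⟨x, hx⟩ v - v) := by
        rw [map_sub]; abel
      rw [h5]
      refine Submodule.add_mem _ ?_ h3
      rw [← h1.fix d hd]
      exact A.mem h4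
    refine ⟨fun d hd => by rw [map_mul, Equiv.Perm.mul_apply, h2.fix d hd, h1.fix d hd],
      fun s v => by rw [A.mul, A.mul, h2.lin, h1.lin], fun u v => by rw [A.mul, A.mul, h1.iso, h2.iso],
      fun d hd v hv => key d hd.le v (h1.step d hd v hv) (h2.step d hd v hv),
      fun v hv => key m le_rfl v (h1.last v hv) (h2.last v hv)⟩
  inv_mem' := by
    rintro x ⟨hx, h1⟩
    refine ⟨inv_mem hx, ?_⟩
    rw [show (⟨x⁻¹, inv_mem hx⟩ : ↥C) = (⟨x, hx⟩ : ↥C)⁻¹ from rfl]
    have fix' : ∀ d ≤ m, sigma (⟨x, hx⟩ : ↥C)⁻¹ (f d) = f d := fun d hd => by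
      rw [map_inv, Equiv.Perm.inv_eq_iff_eq, h1.fix d hd]
    have key : ∀ d ≤ m, ∀ v, rho ⟨x, hx⟩ v - v ∈ f d → rho (⟨x, hx⟩ : ↥C)⁻¹ v - v ∈ f d := by
      intro d hd v h3
      have h5 : rho (⟨x, hx⟩ : ↥C)⁻¹ v - v = - rho (⟨x, hx⟩ : ↥C)⁻¹ (rho ⟨x, hx⟩ v - v) := by
        rw [map_sub, A.inv_mul_apply]; abel
      rw [h5]
      refine Submodule.neg_mem _ ?_
      rw [← fix' d hd]
      exact A.mem h3
    refine ⟨fix', fun s v => ?_, fun u v => ?_, fun d hd v hv => key d hd.le v (h1.step d hd v hv),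
      fun v hv => key m le_rfl v (h1.last v hv)⟩
    · apply (rho ⟨x, hx⟩).injective
      rw [A.mul_inv_apply, h1.lin, A.mul_inv_apply]
    · rw [← h1.iso, A.mul_inv_apply, A.mul_inv_apply]

theorem mem_un {A : HAct sg g rho sigma} {x : G} :
    x ∈ Un A m f ↔ ∃ h : x ∈ C, IsUn g rho sigma m f ⟨x, h⟩ := Iff.rfl

theorem un_le (A : HAct sg g rho sigma) : Un A m f ≤ fst C sigma m f ∅ :=
  fun _ hx => ⟨hx.1, fun d hd _ => hx.2.fix d hd⟩

namespace Pol

variable (p : Pol C q sg g rho sigma m f)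

include p

theorem finF : Finite F := p.H.finite_F

/-- the Siegel transformations are isometries -/
theorem siegel_iso {c : ↥C} {y w : W} {a : F} (hy : g y y = 0) (hw : g w y = 0) (ha : a + sg a = g w w)
    (hc : ∀ v, rho c v = v + g v y • w + (g v w + a * g v y) • y) (u v : W) :
    g (rho c u) (rho c v) = g u v := by
  have H := p.H
  have h1 : g y w = 0 := H.zero_comm hw
  have h2 : g y v = sg (g v y) := H.sym v y
  have h3 : g w v = sg (g v w) := H.sym v w
  rw [hc, hc]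
  simp only [H.add, H.add_r, H.smul, H.smul_r, hy, hw, h1, h2, h3, map_add, map_mul, mul_zero, add_zero]
  have e1 := H.two_self (sg (g v y) * g u w)
  have e2 := H.two_self (g u y * sg (g v w))
  have e3 := H.two_self (g u y * sg (g v y) * g w w)
  linear_combination e1 + e2 + e3 + (g u y * sg (g v y)) * ha

variable [FiniteDimensional F W]

theorem polSp : PolSp (TI g (F := F)) m := p.H.polSp p.hm

theorem act : Act sigma (TI g (F := F)) := by
  have := p.finF
  exact HAct.act p.H p.A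

/-- an element which acts as a Siegel transformation with singular vector in `f i` and centre in `(f i)^⊥` -/
theorem isUn_siegel {i : ℕ} (him : i ≤ m) {y w : W} {a : F} (hy : y ∈ f i)
    (hw : w ∈ p.H.perp (f i)) (ha : a + sg a = g w w) {c : ↥C}
    (hc : ∀ v, rho c v = v + g v y • w + (g v w + a * g v y) • y) : IsUn g rho sigma m f c := by
  have hym : y ∈ f m := p.hf.le him le_rfl hy
  have H := p.H
  have hfin := p.finF
  have k1 : ∀ v, (∀ x ∈ f m, g v x = 0) → rho c v - v = g v w • y := fun v hv => by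
    rw [hc, hv y hym]; simp
  have k2 : ∀ d ≤ m, ∀ v ∈ f d, rho c v - v = g v w • y := fun d hd v hv =>
    k1 v (fun x hx => p.hf.sing v (p.hf.le hd le_rfl hv) x hx)
  have k3 : ∀ v ∈ f i, g v w = 0 := fun v hv => H.zero_comm (hw v hv)
  have k4 : ∀ d ≤ m, ∀ v ∈ f d, rho c v - v ∈ f d := fun d hd v hv => by
    rw [k2 d hd v hv]
    by_cases hdi : d ≤ i
    · rw [k3 v (p.hf.le hdi him hv), zero_smul]; exact Submodule.zero_mem _
    · exact Submodule.smul_mem _ _ (p.hf.le (by omega) hd hy)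
  refine ⟨fun d hd => ?_, fun s v => ?_, fun u v => p.siegel_iso
    (p.hf.sing y hym y hym) (hw y hy) ha hc u v, fun d hd v hv => ?_, fun v hv => ?_⟩
  · apply eq_of_rk
    · intro z hz
      obtain ⟨v, hv, rfl⟩ := (p.A.sig _ _ _).1 hz
      have h1 := Submodule.add_mem _ (k4 d hd v hv) hv
      rwa [sub_add_cancel] at h1
    · exact p.A.card_eq _ _
  · rw [hc, hc, H.smul, H.smul, smul_add, smul_add, smul_smul, smul_smul]
    congr 2
    ring
  · rw [k2 (d + 1) hd v hv]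
    by_cases hdi : d + 1 ≤ i
    · rw [k3 v (p.hf.le hdi him hv), zero_smul]; exact Submodule.zero_mem _
    · exact Submodule.smul_mem _ _ (p.hf.le (by omega) (by omega) hy)
  · rw [k1 v hv]
    exact Submodule.smul_mem _ _ hym

/-- an element which acts trivially -/
theorem isUn_triv {c : ↥C} (h1 : ∀ v, rho c v = v) : IsUn g rho sigma m f c :=
  ⟨fun d _ => p.A.eq_of_fix fun v _ => h1 v, fun s v => by rw [h1, h1],
    fun u v => by rw [h1, h1], fun d _ v _ => by rw [h1, sub_self]; exact Submodule.zero_mem _,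
    fun v _ => by rw [h1, sub_self]; exact Submodule.zero_mem _⟩

/-- the Siegel elements of `Un` -/
theorem siegel_mem {i : ℕ} (him : i ≤ m) {y w : W} {a : F} (hy : y ∈ f i)
    (hw : w ∈ p.H.perp (f i)) (ha : a + sg a = g w w) :
    ∃ x ∈ Un p.A m f, ∃ h : x ∈ C, ∀ v, rho ⟨x, h⟩ v = v + g v y • w + (g v w + a * g v y) • y := by
  have hym : y ∈ f m := p.hf.le him le_rfl hy
  obtain ⟨c, hc⟩ := p.A.siegel y w a (p.hf.sing y hym y hym) (hw y hy) ha
  exact ⟨(c : G), ⟨c.2, p.isUn_siegel him hy hw ha hc⟩, c.2, hc⟩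

/-- **the order of the unipotent group** -/
theorem card_un [Finite G] {Q : Subgroup G} (hQC : Q ≤ C) (hQ : ∀ x (h : x ∈ Q) v, rho ⟨x, hQC h⟩ v = v) :
    Nat.card Q * q ^ (finrank F W * (finrank F W - 1) / 2) ≤ Nat.card (Un p.A m f) := by
  classical
  have hfin := p.finF
  have hW : Finite W := Module.finite_of_finite F
  have H := p.H
  have hex : ∀ d, ∃ v, d < m → v ∈ f (d + 1) ∧ v ∉ f d := by
    intro d
    by_cases hd : d < m
    · obtain ⟨v, -, -, h1, h2⟩ := HAct.exists_gen H (p.hf.si p.polSp (d := d + 1) hd) (p.hf.mono d hd)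
        (by rw [p.hf.rk _ hd, p.hf.rk _ hd.le])
      exact ⟨v, fun _ => ⟨by rw [h2]; exact Submodule.mem_sup_right (Submodule.mem_span_singleton_self v), h1⟩⟩
    · exact ⟨0, fun h => absurd h hd⟩
  choose e₀ he₀ using hex
  let e : ℕ → W := fun d => e₀ (d - 1)
  have he1 : ∀ d < m, e (d + 1) ∈ f (d + 1) := fun d hd => (he₀ d hd).1
  have he2 : ∀ d < m, e (d + 1) ∉ f d := fun d hd => (he₀ d hd).2
  obtain ⟨e', he'⟩ := CardU.exists_dual (sg := sg) (g := g) (f := f) (e := e) H.add H.smul H.sym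
    (map_add sg) (map_mul sg) H.sg_sg (fun w hw => H.nd w fun u => H.zero_comm (hw u)) p.hf.mono he1 he2
  -- `f i` is spanned by the `e j`
  have hspan : ∀ i ≤ m, ∀ w, (∀ j, 1 ≤ j → j ≤ i → g w (e j) = 0) → w ∈ H.perp (f i) := by
    intro i
    induction i with
    | zero =>
      intro _ w _ x hx
      rw [p.hf.zero, Submodule.mem_bot] at hx
      rw [hx]; exact H.zero_r w
    | succ i ih =>
      intro hi w hw
      have h1 : f (i + 1) = f i ⊔ (F ∙ e (i + 1)) := H.eq_sup (p.hf.mono i hi) (he1 i hi) (he2 i hi)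
        (by rw [p.hf.rk _ hi, p.hf.rk i (by omega)])
      rw [h1, H.mem_perp_sup, H.mem_perp_span]
      exact ⟨ih (by omega) w fun j h1 h2 => hw j h1 (by omega), hw (i + 1) (by omega) le_rfl⟩
  let rho' : G → W → W := fun x v => if h : x ∈ C then rho ⟨x, h⟩ v else v
  have hr : ∀ x (h : x ∈ C) v, rho' x v = rho ⟨x, h⟩ v := fun x h v => dif_pos h
  have hUC : ∀ x ∈ Un p.A m f, x ∈ C := fun x hx => hx.1
  have D : CardU.Dat F sg g rho' (Un p.A m f) m e e' :=
    { one := fun v => by rw [hr 1 C.one_mem]; exact p.A.one v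
      mul := fun x hx y hy v => by
        rw [hr _ (mul_mem (hUC x hx) (hUC y hy)), hr x (hUC x hx), hr y (hUC y hy)]
        exact p.A.mul ⟨x, hUC x hx⟩ ⟨y, hUC y hy⟩ v
      sg_one := map_one sg
      sg_add := map_add sg
      g_add := H.add
      g_smul := H.smul
      g_sym := H.sym
      ee' := he'
      tr := fun w => H.tr_surj _ (H.sg_diag w)
      sieg := by
        intro i hi1 hi w hw a ha
        obtain ⟨d, rfl⟩ := Nat.exists_eq_add_of_le' hi1
        obtain ⟨x, hx, h, h1⟩ := p.siegel_mem hi (he1 d hi)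
          (hspan _ hi w fun j h1 h2 => (hw j h1 h2).1) ha
        exact ⟨x, hx, fun v => by rw [hr x h]; exact h1 v⟩ }
  refine D.card_le (Q := Q) ?_ (fun x hx v => ?_) (Module.natCard_eq_pow_finrank (K := F)) H.card
    (by rw [← H.tr_ker]; exact le_rfl) (H.finrank_eq p.hm)
  · intro x hx
    have h1 : ∀ v, rho ⟨x, hQC hx⟩ v = v := fun v => hQ x hx v
    refine ⟨hQC hx, ⟨fun d _ => p.A.eq_of_fix fun v _ => h1 v, fun s v => by rw [h1, h1],
      fun u v => by rw [h1, h1], fun d _ v _ => ?_, fun v _ => ?_⟩⟩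
    · rw [h1, sub_self]; exact Submodule.zero_mem _
    · rw [h1, sub_self]; exact Submodule.zero_mem _
  · rw [hr x (hQC hx)]; exact hQ x hx v

/-! ### The panels -/

/-- an invariant member of the panel -/
theorem sub_mem {c : ↥C} {X : Submodule F W} (h : sigma c X = X) {v : W} (hv : v ∈ X) : rho c v - v ∈ X := by
  refine Submodule.sub_mem _ ?_ hv
  rw [← h]; exact p.A.mem hv

theorem inf_eq {i : ℕ} (hi : i < m) {X : Submodule F W} (hX : X ∈ Flags.Pan (TI g) m f (i + 1))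
    (hne : X ≠ f (i + 1)) : X ⊓ f (i + 1) = f i := by
  symm
  apply eq_of_rk (le_inf (hX.2.2.1 i rfl) (p.hf.mono i hi))
  have h1 := Submodule.finrank_mono (le_inf (hX.2.2.1 i rfl) (p.hf.mono i hi))
  have h2 : finrank F ↥(X ⊓ f (i + 1)) < i + 1 := by
    rcases (Submodule.finrank_mono (inf_le_left : X ⊓ f (i + 1) ≤ X)).lt_or_eq with h | h
    · rwa [hX.2.1] at h
    · exfalso
      have h3 := eq_of_rk inf_le_left h
      have h4 : X ≤ f (i + 1) := by rw [← h3]; exact inf_le_right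
      exact hne (eq_of_rk h4 (by rw [hX.2.1, p.hf.rk _ hi]))
  rw [p.hf.rk i hi.le] at h1 ⊢
  omega

/-- `[f (i+2), u] ≤ f i` -/
theorem key_lt {i : ℕ} (hi : i + 1 < m) {X : Submodule F W} (hX : X ∈ Flags.Pan (TI g) m f (i + 1))
    (hne : X ≠ f (i + 1)) {c : ↥C} (hc : IsUn g rho sigma m f c) (hcX : sigma c X = X) {v : W}
    (hv : v ∈ f (i + 2)) : rho c v - v ∈ f i := by
  have h1 : f (i + 1) ⊔ X = f (i + 2) := by
    have h2 : f (i + 1) ⊔ X ≤ f (i + 2) := sup_le (p.hf.mono _ hi) (hX.2.2.2 hi)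
    apply eq_of_rk h2
    have h3 := Submodule.finrank_sup_add_finrank_inf_eq (f (i + 1)) X
    rw [inf_comm, p.inf_eq (by omega) hX hne, p.hf.rk _ hi.le, hX.2.1, p.hf.rk i (by omega)] at h3
    rw [p.hf.rk _ hi]
    omega
  rw [← h1] at hv
  obtain ⟨a, ha, b, hb, rfl⟩ := Submodule.mem_sup.1 hv
  have h2 : rho c (a + b) - (a + b) = (rho c a - a) + (rho c b - b) := by rw [map_add]; abel
  rw [h2]
  refine Submodule.add_mem _ (hc.step i (by omega) a ha) ?_
  rw [← p.inf_eq (by omega) hX hne]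
  exact ⟨p.sub_mem hcX hb, hc.step (i + 1) hi b (hX.2.2.2 hi hb)⟩

/-- `[(f i)^⊥, u] ≤ f i`, `m = i + 1` -/
theorem key_last {i : ℕ} (hi : i + 1 = m) {X : Submodule F W} (hX : X ∈ Flags.Pan (TI g) m f (i + 1))
    (hne : X ≠ f (i + 1)) {c : ↥C} (hc : IsUn g rho sigma m f c) (hcX : sigma c X = X) {v : W}
    (hv : v ∈ p.H.perp (f i)) : rho c v - v ∈ f i := by
  have H := p.H
  have hfin := p.finF
  have hinf := p.inf_eq (by omega) hX hne
  have hfX : f i ≤ X := hX.2.2.1 i rfl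
  obtain ⟨e, hee, he1, he2, he3⟩ := HAct.exists_gen H p.hf.sing (p.hf.le (a := i) (by omega) le_rfl)
    (by rw [p.hf.rk _ le_rfl, p.hf.rk i (by omega), hi])
  obtain ⟨x, hxx, hx1, hx2, hx3⟩ := HAct.exists_gen H hX.1 hfX (by rw [hX.2.1, p.hf.rk i (by omega)])
  have hem : e ∈ f m := by rw [he3]; exact Submodule.mem_sup_right (Submodule.mem_span_singleton_self e)
  have hxX : x ∈ X := by rw [hx3]; exact Submodule.mem_sup_right (Submodule.mem_span_singleton_self x)
  have hxe : g x e ≠ 0 := by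
    intro h
    have h1 : x ∈ f m := H.mem_of_iso p.hm p.hf hxx (by
      rw [he3, H.mem_perp_sup, H.mem_perp_span]; exact ⟨hx1, h⟩)
    rw [← hi] at h1
    exact hx2 (by rw [← hinf]; exact ⟨hxX, h1⟩)
  have hex := H.ne_comm hxe
  -- elements of `X` orthogonal to `e`, elements of `f m` orthogonal to `x`
  have k1 : ∀ z ∈ X, g z e = 0 → z ∈ f i := by
    intro z hz h
    rw [hx3] at hz
    obtain ⟨a, ha, b, hb, rfl⟩ := Submodule.mem_sup.1 hz
    obtain ⟨r, rfl⟩ := Submodule.mem_span_singleton.1 hb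
    rw [H.add, H.smul, H.zero_comm (he1 a ha), zero_add] at h
    rcases mul_eq_zero.1 h with h | h
    · rw [h, zero_smul, add_zero]; exact ha
    · exact absurd h hxe
  have k2 : ∀ z ∈ f m, g z x = 0 → z ∈ f i := by
    intro z hz h
    rw [he3] at hz
    obtain ⟨a, ha, b, hb, rfl⟩ := Submodule.mem_sup.1 hz
    obtain ⟨r, rfl⟩ := Submodule.mem_span_singleton.1 hb
    rw [H.add, H.smul, H.zero_comm (hx1 a ha), zero_add] at h
    rcases mul_eq_zero.1 h with h | h
    · rw [h, zero_smul, add_zero]; exact ha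
    · exact absurd h hex
  have k3 : rho c e - e ∈ f i := hc.step i (by omega) e (by rw [hi]; exact hem)
  have k4 : rho c x - x ∈ f i := by
    have h1 := p.sub_mem hcX hxX
    refine k1 _ h1 ?_
    have h2 : rho c x ∈ X := by
      have := Submodule.add_mem _ h1 hxX
      rwa [sub_add_cancel] at this
    have h3 : g (rho c x) (rho c e - e) = 0 := hX.1 _ h2 _ (hfX k3)
    rw [H.sub_w, H.add_r, hc.iso] at h3
    rw [H.sub_w, H.add, add_comm]
    exact h3
  -- the general vector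
  let s : F := g v x / g e x
  let t : F := g v e / g x e
  have h1 : g (v + s • e + t • x) x = 0 := by
    rw [H.add, H.add, H.smul, H.smul, hxx, mul_zero, add_zero, div_mul_cancel₀ _ hex, H.two_self]
  have h2 : g (v + s • e + t • x) e = 0 := by
    rw [H.add, H.add, H.smul, H.smul, hee, mul_zero, add_zero, div_mul_cancel₀ _ hxe, H.two_self]
  have h3 : v + s • e + t • x ∈ H.perp (f i) :=
    Submodule.add_mem _ (Submodule.add_mem _ hv (Submodule.smul_mem _ _ he1)) (Submodule.smul_mem _ _ hx1)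
  have h4 : rho c (v + s • e + t • x) - (v + s • e + t • x) ∈ f i := by
    have h5 : v + s • e + t • x ∈ H.perp (f m) := by
      rw [he3, H.mem_perp_sup, H.mem_perp_span]; exact ⟨h3, h2⟩
    refine k2 _ (hc.last _ h5) ?_
    have h6 : x - rho c x ∈ f i := by
      have := Submodule.neg_mem _ k4
      rwa [neg_sub] at this
    have h7 : g (rho c (v + s • e + t • x)) x = 0 := by
      have h8 : g (rho c (v + s • e + t • x)) x = g (rho c (v + s • e + t • x)) (x - rho c x) +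
          g (rho c (v + s • e + t • x)) (rho c x) := by rw [← H.add_r, sub_add_cancel]
      have h9 : g (rho c (v + s • e + t • x)) (x - rho c x) = 0 := by
        have h10 : x - rho c x ∈ sigma c (f i) := by rw [hc.fix i (by omega)]; exact h6
        obtain ⟨z, hz, h11⟩ := (p.A.sig _ _ _).1 h10
        rw [← h11, hc.iso]
        exact h3 z hz
      rw [h8, hc.iso, h1, h9, add_zero]
    rw [H.sub_w, H.add, h7, h1, add_zero]
  have h5 : rho c v - v = (rho c (v + s • e + t • x) - (v + s • e + t • x)) -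
      s • (rho c e - e) - t • (rho c x - x) := by
    rw [map_add, map_add, hc.lin, hc.lin, smul_sub, smul_sub]; abel
  rw [h5]
  exact Submodule.sub_mem _ (Submodule.sub_mem _ h4 (Submodule.smul_mem _ _ k3)) (Submodule.smul_mem _ _ k4)

/-- an element of `Un` which fixes a second member of the panel fixes the panel -/
theorem fix_pan {i : ℕ} (hi : i < m) {X : Submodule F W} (hX : X ∈ Flags.Pan (TI g) m f (i + 1))
    (hne : X ≠ f (i + 1)) {c : ↥C} (hc : IsUn g rho sigma m f c) (hcX : sigma c X = X)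
    {Y : Submodule F W} (hY : Y ∈ Flags.Pan (TI g) m f (i + 1)) : sigma c Y = Y := by
  have hfin := p.finF
  apply eq_of_rk
  · intro z hz
    obtain ⟨v, hv, rfl⟩ := (p.A.sig _ _ _).1 hz
    have h1 : rho c v - v ∈ f i := by
      by_cases h : i + 1 < m
      · exact p.key_lt h hX hne hc hcX (hY.2.2.2 h hv)
      · exact p.key_last (by omega) hX hne hc hcX (fun x hx => hY.1 v hv x (hY.2.2.1 i rfl hx))
    have h2 := Submodule.add_mem _ (hY.2.2.1 i rfl h1) hv
    rwa [sub_add_cancel] at h2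
  · exact p.A.card_eq _ _

omit [FiniteDimensional F W] in
theorem sigma_conj (x u : ↥C) (X : Submodule F W) :
    sigma (x⁻¹ * u * x) X = X ↔ sigma u (sigma x X) = sigma x X := by
  rw [map_mul, map_mul, Equiv.Perm.mul_apply, Equiv.Perm.mul_apply, map_inv, Equiv.Perm.inv_eq_iff_eq]

/-- **`pan`** -/
theorem pan {j : ℕ} (hj1 : 1 ≤ j) (hj : j ≤ m) : ∀ u ∈ Un p.A m f, ∀ x ∈ fst C sigma m f {j},
    x ∉ fst C sigma m f ∅ → x⁻¹ * u * x ∈ fst C sigma m f ∅ →
    ∀ y ∈ fst C sigma m f {j}, y⁻¹ * u * y ∈ fst C sigma m f ∅ := by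
  obtain ⟨i, rfl⟩ := Nat.exists_eq_add_of_le' hj1
  rintro u ⟨hu, hu'⟩ x hx hxB hux y hy
  have hX := mem_pan p.act p.polSp p.hf hj hx
  have hY := mem_pan p.act p.polSp p.hf hj hy
  have hne : sigma ⟨x, hx.1⟩ (f (i + 1)) ≠ f (i + 1) := by
    intro h
    refine hxB ⟨hx.1, fun d hd _ => ?_⟩
    by_cases hdi : d = i + 1
    · subst hdi; exact h
    · exact hx.2 d hd (by simpa using hdi)
  have hc : ∀ z (hz : z ∈ C), sigma ⟨z⁻¹ * u * z, mul_mem (mul_mem (inv_mem hz) hu) hz⟩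
      = sigma ((⟨z, hz⟩ : ↥C)⁻¹ * ⟨u, hu⟩ * ⟨z, hz⟩) := fun z hz => rfl
  have h1 : sigma ⟨u, hu⟩ (sigma ⟨x, hx.1⟩ (f (i + 1))) = sigma ⟨x, hx.1⟩ (f (i + 1)) := by
    rw [← p.sigma_conj, ← hc]
    exact hux.2 (i + 1) hj (by simp)
  refine ⟨mul_mem (mul_mem (inv_mem hy.1) hu) hy.1, fun d hd _ => ?_⟩
  rw [hc y hy.1, p.sigma_conj]
  by_cases hdi : d = i + 1
  · subst hdi
    exact p.fix_pan hj hX hne hu' h1 hY
  · rw [hy.2 d hd (by simpa using hdi)]
    exact hu'.fix d hd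

/-- **`clo`** -/
theorem clo {j : ℕ} (hj1 : 1 ≤ j) (hj : j ≤ m) : ∀ u ∈ Un p.A m f, ∀ x ∈ fst C sigma m f {j},
    x⁻¹ * u * x ∈ fst C sigma m f ∅ → x⁻¹ * u * x ∈ Un p.A m f := by
  obtain ⟨i, rfl⟩ := Nat.exists_eq_add_of_le' hj1
  rintro u ⟨hu, hu'⟩ x hx hux
  have hxC : x ∈ C := hx.1
  refine ⟨hux.1, ?_⟩
  have hc : (⟨x⁻¹ * u * x, hux.1⟩ : ↥C) = (⟨x, hxC⟩ : ↥C)⁻¹ * ⟨u, hu⟩ * ⟨x, hxC⟩ := rfl
  have hfix : ∀ d ≤ m, sigma ((⟨x, hxC⟩ : ↥C)⁻¹ * ⟨u, hu⟩ * ⟨x, hxC⟩) (f d) = f d := fun d hd =>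
    hux.2 d hd (by simp)
  rw [hc]
  have hX := mem_pan p.act p.polSp p.hf hj hx
  have hxu : ∀ d ≤ m, sigma ⟨u, hu⟩ (sigma ⟨x, hxC⟩ (f d)) = sigma ⟨x, hxC⟩ (f d) := fun d hd => by
    rw [← p.sigma_conj]; exact hfix d hd
  have hxd : ∀ d ≤ m, d ≠ i + 1 → sigma ⟨x, hxC⟩ (f d) = f d := fun d hd h =>
    hx.2 d hd (by simpa using h)
  generalize (⟨x, hxC⟩ : ↥C) = x' at *
  generalize (⟨u, hu⟩ : ↥C) = u' at *
  obtain ⟨τ, μ, hμ, hτ1, hτ2⟩ := p.A.semi x'
  have e1 : ∀ v, rho x' (rho (x'⁻¹ * u' * x') v) = rho u' (rho x' v) := fun v => by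
    rw [← p.A.mul, ← p.A.mul]; congr 2; group
  -- the filtration
  have key : ∀ (Y : Submodule F W) (v : W), rho u' (rho x' v) - rho x' v ∈ sigma x' Y →
      rho (x'⁻¹ * u' * x') v - v ∈ Y := by
    intro Y v h
    rw [← p.A.mem_iff (c := x'), map_sub, e1]
    exact h
  have hne : ∀ h : sigma x' (f (i + 1)) ≠ f (i + 1), ∀ v, ((i + 1 < m ∧ v ∈ f (i + 2)) ∨ (i + 1 = m ∧ v ∈ p.H.perp (f i))) →
      rho u' v - v ∈ f i := by
    rintro h v (⟨h1, h2⟩ | ⟨h1, h2⟩)
    · exact p.key_lt h1 hX h hu' (hxu _ hj) h2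
    · exact p.key_last h1 hX h hu' (hxu _ hj) h2
  have hfi : f i ≤ sigma x' (f (i + 1)) := hX.2.2.1 i rfl
  refine ⟨hfix, fun s v => ?_, fun v w => ?_, fun d hd v hv => ?_, fun v hv => ?_⟩
  · apply (rho x').injective
    rw [e1, hτ1, hu'.lin, hτ1, e1]
  · have h1 := hτ2 (rho (x'⁻¹ * u' * x') v) (rho (x'⁻¹ * u' * x') w)
    rw [e1, e1, hu'.iso, hτ2 v w] at h1
    exact (τ.injective (mul_left_cancel₀ hμ h1)).symm
  · apply key
    have h1 : rho x' v ∈ sigma x' (f (d + 1)) := p.A.mem hv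
    by_cases hb : sigma x' (f (i + 1)) = f (i + 1)
    · have h2 : ∀ d ≤ m, sigma x' (f d) = f d := fun d hd => by
        by_cases hdi : d = i + 1
        · subst hdi; exact hb
        · exact hxd d hd hdi
      rw [h2 _ hd] at h1
      rw [h2 _ hd.le]
      exact hu'.step d hd _ h1
    by_cases h2 : d = i
    · subst h2
      rw [hxd d (by omega) (by omega)]
      refine hne hb _ ?_
      by_cases h3 : d + 1 < m
      · exact Or.inl ⟨h3, hX.2.2.2 h3 h1⟩
      · exact Or.inr ⟨by omega, fun y hy => hX.1 _ h1 y (hfi hy)⟩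
    by_cases h3 : d = i + 1
    · subst h3
      rw [hxd (i + 1 + 1) hd (by omega)] at h1
      exact hfi (hne hb _ (Or.inl ⟨hd, h1⟩))
    · rw [hxd _ hd (by omega)] at h1
      rw [hxd _ hd.le h3]
      exact hu'.step d hd _ h1
  · apply key
    have h1 : ∀ y ∈ sigma x' (f m), g (rho x' v) y = 0 := by
      intro y hy
      obtain ⟨z, hz, rfl⟩ := (p.A.sig _ _ _).1 hy
      rw [hτ2, hv z hz, map_zero, mul_zero]
    by_cases hb : sigma x' (f m) = f m
    · rw [hb] at h1 ⊢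
      exact hu'.last _ h1
    · have hm' : i + 1 = m := by
        by_contra h
        exact hb (hxd m le_rfl (fun h' => h h'.symm))
      rw [← hm'] at hb h1 ⊢
      exact hfi (hne hb _ (Or.inr ⟨hm', fun y hy => h1 y (hfi hy)⟩))

/-! ### Summary -/

section res

variable {I : Type*} {P : I → Subgroup G} {a b : I} {i j : ℕ} (hB : ∀ k, fst C sigma m f ∅ ≤ P k)
  (ha : P a = fst C sigma m f {i}) (hb : P b = fst C sigma m f {j})

include hB ha hb

theorem rk_two (hij : i + 1 < j) (hj : j ≤ m) :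
    Rk (fst C sigma m f ∅) P a b 2 ∧ Rk (fst C sigma m f ∅) P b a 2 :=
  Flags.rk_two p.polSp p.act p.hf hB ha hb hij hj

theorem rk_three (hi : 1 ≤ i) (hij : i + 1 = j) (hj : j < m) :
    Rk (fst C sigma m f ∅) P a b 3 ∧ Rk (fst C sigma m f ∅) P b a 3 :=
  Flags.rk_three p.polSp p.act p.hf hB ha hb hi hij hj

theorem rk_four (hi : 1 ≤ i) (hij : i + 1 = j) (hj : j = m) :
    Rk (fst C sigma m f ∅) P a b 4 ∧ Rk (fst C sigma m f ∅) P b a 4 :=
  Flags.rk_four p.polSp p.act p.hf hB ha hb hi hij hj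

end res

theorem relIndex_lt {j : ℕ} (hj : 1 ≤ j) (hjm : j < m) :
    (fst C sigma m f ∅).relIndex (fst C sigma m f {j}) = Nat.card F + 1 := by
  rw [relIndex_fst p.polSp p.act p.hf hjm.le, p.H.card_pan_lt p.hm p.hf hj hjm]

theorem relIndex_last (hm1 : 1 ≤ m) :
    (fst C sigma m f ∅).relIndex (fst C sigma m f {m}) = q * Nat.card F ^ (finrank F W - 2 * m) + 1 := by
  rw [relIndex_fst p.polSp p.act p.hf le_rfl, p.H.card_pan_last p.hm p.hf hm1]

theorem gen (hm1 : 1 ≤ m) {N : Subgroup G} (hN : ∀ j, 1 ≤ j → j ≤ m → fst C sigma m f {j} ≤ N) : C ≤ N :=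
  le_of_panels p.polSp p.act p.hf hm1 hN

theorem finrank_eq : finrank F W = 2 * m ∨ finrank F W = 2 * m + 1 := p.H.finrank_eq p.hm

end Pol

end Cfsg.Agent.ParSys.Polar.Unip
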